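import Groth.Prelude.Def_GrMod2
import Mathlib.RingTheory.GradedAlgebra.Radical

/-! Graded modules: fractions vanishing on standard opens. -/

set_option autoImplicit false
set_option backward.isDefEq.respectTransparency false
set_option backward.isDefEq.respectTransparency.types false
set_option linter.unusedSectionVars false

noncomputable section

universe u

open CategoryTheory AlgebraicGeometry Opposite TopologicalSpace

namespace Groth.Agent.GrTildeLib

variable {R A : Type u} [CommRing R] [CommRing A] [Algebra R A] (𝒜 : ℕ → Submodule R A) [GradedAlgebra 𝒜]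
variable {M : Type u} [AddCommGroup M] [Module R M] [Module A M] (ℳ : ℕ → Submodule R M)

/-- A homogeneous element avoids a prime if it is outside the radical of homogeneous generators. -/
theorem mem_radical_of_forall {d : ℕ} (hd : 0 < d) {f : A} (hf : f ∈ 𝒜 d) {E : Set A}
    (hE : ∀ e ∈ E, SetLike.IsHomogeneousElem 𝒜 e)
    (h : ∀ x : ProjectiveSpectrum 𝒜, f ∉ x.asHomogeneousIdeal → ∃ e ∈ E, e ∉ x.asHomogeneousIdeal) :
    f ∈ (Ideal.span E).radical := by
  by_contra hfE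
  obtain ⟨P, hP, hEP, hfP⟩ : ∃ P : Ideal A, P.IsPrime ∧ Ideal.span E ≤ P ∧ f ∉ P := by
    rw [Ideal.radical_eq_sInf, Ideal.mem_sInf] at hfE
    push Not at hfE
    obtain ⟨P, ⟨h1, h2⟩, h3⟩ := hfE
    exact ⟨P, h2, h1, h3⟩
  let Q : HomogeneousIdeal 𝒜 := P.homogeneousCore 𝒜
  have hfQ : f ∉ Q := fun h ↦ hfP (Ideal.toIdeal_homogeneousCore_le 𝒜 P h)
  let x : ProjectiveSpectrum 𝒜 := ⟨Q, hP.homogeneousCore, fun hle ↦
    hfQ (hle (HomogeneousIdeal.mem_irrelevant_of_mem 𝒜 hd hf))⟩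
  obtain ⟨e, he, hex⟩ := h x hfQ
  refine hex (Ideal.mem_homogeneousCore_of_homogeneous_of_mem (hE e he) (hEP (Ideal.subset_span he)))

variable [DirectSum.Decomposition ℳ] [SetLike.GradedSMul 𝒜 ℳ]

/-- Components of a multiple of a homogeneous element. -/
theorem decompose_smul_right (c : A) {i : ℕ} {m : M} (hm : m ∈ ℳ i) (k : ℕ) :
    (DirectSum.decompose ℳ (c • m) (k + i) : M) = (DirectSum.decompose 𝒜 c k : A) • m := by
  classical
  have hmem : ∀ l, (DirectSum.decompose 𝒜 c l : A) • m ∈ ℳ (l + i) := fun l ↦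
    SetLike.GradedSMul.smul_mem (A := 𝒜) (B := ℳ) (DirectSum.decompose 𝒜 c l).2 hm
  conv_lhs => rw [← DirectSum.sum_support_decompose 𝒜 c]
  rw [Finset.sum_smul, DirectSum.decompose_sum, DFinsupp.finset_sum_apply, Submodule.coe_sum,
    Finset.sum_eq_single k]
  · exact DirectSum.decompose_of_mem_same ℳ (hmem k)
  · intro l _ hlk
    exact DirectSum.decompose_of_mem_ne ℳ (hmem l) (show l + i ≠ k + i by omega)
  · intro hk
    rw [DFinsupp.notMem_support_iff.mp hk]
    simp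

/-- A homogeneous element killed outside a homogeneous prime has a homogeneous killer there. -/
theorem exists_homogeneous_killer {x : ProjectiveSpectrum 𝒜} {c : A} (hc : c ∉ x.asHomogeneousIdeal) {i : ℕ} {m : M}
    (hm : m ∈ ℳ i) (h : c • m = 0) : ∃ (k : ℕ) (e : A), e ∈ 𝒜 k ∧ e ∉ x.asHomogeneousIdeal ∧ e • m = 0 := by
  classical
  obtain ⟨k, hk⟩ : ∃ k, (DirectSum.decompose 𝒜 c k : A) ∉ x.asHomogeneousIdeal := by
    by_contra hne
    push Not at hne
    refine hc ?_
    rw [← DirectSum.sum_support_decompose 𝒜 c]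
    exact Submodule.sum_mem x.asHomogeneousIdeal.toIdeal fun l _ ↦ hne l
  refine ⟨k, _, SetLike.coe_mem _, hk, ?_⟩
  rw [← decompose_smul_right 𝒜 ℳ c hm k, h, DirectSum.decompose_zero]
  rfl

omit [Module R M] [DirectSum.Decomposition ℳ] [SetLike.GradedSMul 𝒜 ℳ] in
theorem mk_eq_zero_iff {x : ProjectiveSpectrum 𝒜} (m : M) (s : x.asHomogeneousIdeal.toIdeal.primeCompl) :
    (LocalizedModule.mk m s : GrTilde.LocMod 𝒜 (M := M) x) = 0 ↔ ∃ c : A, c ∉ x.asHomogeneousIdeal ∧ c • m = 0 := by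
  rw [← LocalizedModule.zero_mk s, LocalizedModule.mk_eq]
  constructor
  · rintro ⟨u, hu⟩
    exact ⟨u.1 * s.1, fun hmem ↦ (x.isPrime.mem_or_mem hmem).elim u.2 s.2,
      by simpa only [Submonoid.smul_def, mul_smul, smul_zero] using hu⟩
  · rintro ⟨c, hc, hcm⟩
    refine ⟨⟨c, hc⟩, ?_⟩
    simp only [Submonoid.smul_def, smul_zero]
    rw [← mul_smul, mul_comm, mul_smul, hcm, smul_zero]

/-- Vanishing on `D₊(f)` means killed by a power of `f`. -/
theorem exists_pow_smul_eq_zero {d : ℕ} (hd : 0 < d) {f : A} (hf : f ∈ 𝒜 d) {i : ℕ} {m : M} (hm : m ∈ ℳ i)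
    (h : ∀ x : ProjectiveSpectrum 𝒜, f ∉ x.asHomogeneousIdeal → ∃ c : A, c ∉ x.asHomogeneousIdeal ∧ c • m = 0) :
    ∃ N : ℕ, f ^ N • m = 0 := by
  obtain ⟨N, hN⟩ := mem_radical_of_forall 𝒜 hd hf (E := {e | SetLike.IsHomogeneousElem 𝒜 e ∧ e • m = 0})
    (fun e he ↦ he.1) fun x hx ↦ by
      obtain ⟨c, hc, hcm⟩ := h x hx
      obtain ⟨k, e, hek, hex, hem⟩ := exists_homogeneous_killer 𝒜 ℳ hc hm hcm
      exact ⟨e, ⟨⟨k, hek⟩, hem⟩, hex⟩
  refine ⟨N, ?_⟩
  generalize f ^ N = z at hN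
  induction hN using Submodule.span_induction with
  | mem e he => exact he.2
  | zero => exact zero_smul A m
  | add a b _ _ ha hb => rw [add_smul, ha, hb, add_zero]
  | smul r a _ ha => rw [smul_eq_mul, mul_smul, ha, smul_zero]

end Groth.Agent.GrTildeLib
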