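import Groth.Agent.GrTildeLib.QCoh

/-! Functions `a / g ^ k` on the opens `D₊(g)` for `g` of degree one. -/

set_option autoImplicit false
set_option backward.isDefEq.respectTransparency false
set_option backward.isDefEq.respectTransparency.types false
set_option linter.unusedSectionVars false

noncomputable section

universe u

open CategoryTheory AlgebraicGeometry Opposite TopologicalSpace HomogeneousLocalization
open Groth.Agent.QCohBase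

namespace Groth.Agent.GrTildeLib

variable {R A : Type u} [CommRing R] [CommRing A] [Algebra R A] (𝒜 : ℕ → Submodule R A) [GradedAlgebra 𝒜]

/-- The value of a function. -/
abbrev oval {U : (Proj 𝒜).Opens} (r : Γ(Proj 𝒜, U)) (x : U) : Twist.Loc 𝒜 x.1 := (r.1 x).val

lemma oval_ext {U : (Proj 𝒜).Opens} {r r' : Γ(Proj 𝒜, U)} (h : ∀ x : U, oval 𝒜 r x = oval 𝒜 r' x) : r = r' :=
  Subtype.ext (funext fun x ↦ HomogeneousLocalization.val_injective _ (h x))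

lemma oval_ores {U V : (Proj 𝒜).Opens} (h : V ≤ U) (r : Γ(Proj 𝒜, U)) (x : V) :
    oval 𝒜 (ores h r) x = oval 𝒜 r ⟨x.1, h x.2⟩ := rfl

lemma oval_mul {U : (Proj 𝒜).Opens} (r r' : Γ(Proj 𝒜, U)) (x : U) :
    oval 𝒜 (r * r') x = oval 𝒜 r x * oval 𝒜 r' x := HomogeneousLocalization.val_mul _ _

lemma oval_add {U : (Proj 𝒜).Opens} (r r' : Γ(Proj 𝒜, U)) (x : U) :
    oval 𝒜 (r + r') x = oval 𝒜 r x + oval 𝒜 r' x := HomogeneousLocalization.val_add _ _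

lemma oval_one {U : (Proj 𝒜).Opens} (x : U) : oval 𝒜 (1 : Γ(Proj 𝒜, U)) x = 1 := HomogeneousLocalization.val_one

lemma oval_zero {U : (Proj 𝒜).Opens} (x : U) : oval 𝒜 (0 : Γ(Proj 𝒜, U)) x = 0 := HomogeneousLocalization.val_zero

variable {g : A} (hg : g ∈ 𝒜 1)

/-- `a / g ^ k`. -/
def cfun (k : ℕ) (a : A) (ha : a ∈ 𝒜 k) : Γ(Proj 𝒜, Proj.basicOpen 𝒜 g) :=
  (Proj.awayToSection 𝒜 g).hom (Away.mk 𝒜 hg k a (by simpa using ha))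

lemma oval_cfun (k : ℕ) (a : A) (ha : a ∈ 𝒜 k) (x : Proj.basicOpen 𝒜 g) :
    oval 𝒜 (cfun 𝒜 hg k a ha) x =
      (Localization.mk a ⟨g ^ k, fun h ↦ x.2 (x.1.isPrime.mem_of_pow_mem k h)⟩ : Twist.Loc 𝒜 x.1) :=
  val_awayToSection 𝒜 hg k a _ x

lemma cfun_congr {k k' : ℕ} {a a' : A} {ha : a ∈ 𝒜 k} {ha' : a' ∈ 𝒜 k'} (hk : k = k') (h : a = a') :
    cfun 𝒜 hg k a ha = cfun 𝒜 hg k' a' ha' := by
  subst hk h; rfl

lemma cfun_eq_of_mul {k k' : ℕ} {a a' : A} (ha : a ∈ 𝒜 k) (ha' : a' ∈ 𝒜 k') (h : a * g ^ k' = a' * g ^ k) :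
    cfun 𝒜 hg k a ha = cfun 𝒜 hg k' a' ha' := by
  refine oval_ext 𝒜 fun x ↦ ?_
  rw [oval_cfun, oval_cfun, Localization.mk_eq_mk_iff, Localization.r_iff_exists]
  exact ⟨1, by simp; rw [mul_comm, h, mul_comm]⟩

lemma cfun_mul {k k' : ℕ} {a a' : A} (ha : a ∈ 𝒜 k) (ha' : a' ∈ 𝒜 k') :
    cfun 𝒜 hg k a ha * cfun 𝒜 hg k' a' ha' = cfun 𝒜 hg (k + k') (a * a') (SetLike.mul_mem_graded ha ha') := by
  refine oval_ext 𝒜 fun x ↦ ?_
  rw [oval_mul, oval_cfun, oval_cfun, oval_cfun, Localization.mk_mul, Localization.mk_eq_mk_iff,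
    Localization.r_iff_exists]
  exact ⟨1, by simp [pow_add]⟩

lemma cfun_add {k : ℕ} {a a' : A} (ha : a ∈ 𝒜 k) (ha' : a' ∈ 𝒜 k) :
    cfun 𝒜 hg k (a + a') (add_mem ha ha') = cfun 𝒜 hg k a ha + cfun 𝒜 hg k a' ha' := by
  refine oval_ext 𝒜 fun x ↦ ?_
  rw [oval_add, oval_cfun, oval_cfun, oval_cfun, Localization.add_mk_self]

lemma cfun_zero (k : ℕ) : cfun 𝒜 hg k 0 (zero_mem _) = 0 := by
  refine oval_ext 𝒜 fun x ↦ ?_
  rw [oval_zero, oval_cfun, Localization.mk_zero]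

lemma cfun_pow_self (k : ℕ) : cfun 𝒜 hg k (g ^ k) (by simpa using SetLike.pow_mem_graded k hg) = 1 := by
  refine oval_ext 𝒜 fun x ↦ ?_
  rw [oval_one, oval_cfun, ← Localization.mk_one, Localization.mk_eq_mk_iff, Localization.r_iff_exists]
  exact ⟨1, by simp⟩

lemma cfun_one : cfun 𝒜 hg 0 1 SetLike.GradedOne.one_mem = 1 :=
  (cfun_congr 𝒜 hg rfl (pow_zero g).symm).trans (cfun_pow_self 𝒜 hg 0)

variable {h : A} (hh : h ∈ 𝒜 1)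

/-- Change of chart. -/
lemma cfun_change {k : ℕ} {a : A} (ha : a ∈ 𝒜 k) {W : (Proj 𝒜).Opens} (hWg : W ≤ Proj.basicOpen 𝒜 g)
    (hWh : W ≤ Proj.basicOpen 𝒜 h) :
    ores hWg (cfun 𝒜 hg k a ha) =
      ores hWg (cfun 𝒜 hg k (h ^ k) (by simpa using SetLike.pow_mem_graded k hh)) * ores hWh (cfun 𝒜 hh k a ha) := by
  refine oval_ext 𝒜 fun x ↦ ?_
  rw [oval_mul, oval_ores, oval_ores, oval_ores, oval_cfun, oval_cfun, oval_cfun, Localization.mk_mul,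
    Localization.mk_eq_mk_iff, Localization.r_iff_exists]
  exact ⟨1, by simp; ring⟩

lemma cfun_inv (k : ℕ) {W : (Proj 𝒜).Opens} (hWg : W ≤ Proj.basicOpen 𝒜 g) (hWh : W ≤ Proj.basicOpen 𝒜 h) :
    ores hWg (cfun 𝒜 hg k (h ^ k) (by simpa using SetLike.pow_mem_graded k hh)) *
      ores hWh (cfun 𝒜 hh k (g ^ k) (by simpa using SetLike.pow_mem_graded k hg)) = 1 := by
  rw [← cfun_change 𝒜 hg hh (k := k) (a := g ^ k) (by simpa using SetLike.pow_mem_graded k hg) hWg hWh,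
    cfun_pow_self, map_one]

lemma basicOpen_cfun {k : ℕ} (hk : 0 < k) {a : A} (ha : a ∈ 𝒜 k) :
    (Proj 𝒜).basicOpen (cfun 𝒜 hg k a ha) = Proj.basicOpen 𝒜 g ⊓ Proj.basicOpen 𝒜 a :=
  basicOpen_awayToSection 𝒜 one_pos hg hk _

lemma mem_basicOpen_cfun {k : ℕ} {a : A} (ha : a ∈ 𝒜 k) {x : Proj 𝒜} (hxg : x ∈ Proj.basicOpen 𝒜 g)
    (hxa : x ∈ Proj.basicOpen 𝒜 a) : x ∈ (Proj 𝒜).basicOpen (cfun 𝒜 hg k a ha) := by
  rw [cfun_eq_of_mul 𝒜 hg ha (SetLike.mul_mem_graded ha hg) (a' := a * g) (by ring),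
    basicOpen_cfun 𝒜 hg k.succ_pos]
  exact ⟨hxg, fun hm ↦ (x.isPrime.mem_or_mem hm).elim hxa hxg⟩

lemma isUnit_ores_cfun {k : ℕ} {a : A} (ha : a ∈ 𝒜 k) {W : (Proj 𝒜).Opens} (hWg : W ≤ Proj.basicOpen 𝒜 g)
    (hWa : W ≤ Proj.basicOpen 𝒜 a) : IsUnit (ores hWg (cfun 𝒜 hg k a ha)) := by
  have hle : W ≤ (Proj 𝒜).basicOpen (cfun 𝒜 hg k a ha) :=
    fun x hx ↦ mem_basicOpen_cfun 𝒜 hg ha (hWg hx) (hWa hx)
  have h1 : IsUnit (ores ((Proj 𝒜).basicOpen_le (cfun 𝒜 hg k a ha)) (cfun 𝒜 hg k a ha)) :=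
    RingedSpace.isUnit_res_basicOpen (Proj 𝒜).toRingedSpace _
  have h2 := h1.map (ores hle)
  rwa [ores_ores] at h2

lemma isUnit_germ_cfun {k : ℕ} {a : A} (ha : a ∈ 𝒜 k) {x : Proj 𝒜} (hxg : x ∈ Proj.basicOpen 𝒜 g)
    (hxa : x ∈ Proj.basicOpen 𝒜 a) : IsUnit ((Proj 𝒜).presheaf.germ _ x hxg (cfun 𝒜 hg k a ha)) :=
  ((Proj 𝒜).mem_basicOpen _ x hxg).mp (mem_basicOpen_cfun 𝒜 hg ha hxg hxa)

/-- Every function on `D₊(g)` is some `a / g ^ k`, `k > 0`. -/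
lemma exists_eq_cfun (r : Γ(Proj 𝒜, Proj.basicOpen 𝒜 g)) :
    ∃ (k : ℕ) (a : A) (ha : a ∈ 𝒜 k), 0 < k ∧ r = cfun 𝒜 hg k a ha := by
  obtain ⟨k, a, ha, hk, rfl⟩ := exists_eq_awayToSection 𝒜 one_pos hg r
  exact ⟨k, a, by simpa using ha, hk, rfl⟩

end Groth.Agent.GrTildeLib
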