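import Groth.Agent.GrTildeLib.QCoh
import Groth.Agent.EGA2G.Graded
import Groth.Agent.QCohBase.Finite

/-! `M~` is of finite type. -/

set_option autoImplicit false
set_option backward.isDefEq.respectTransparency false
set_option backward.isDefEq.respectTransparency.types false
set_option linter.unusedSectionVars false

noncomputable section

universe u

open CategoryTheory AlgebraicGeometry Opposite TopologicalSpace HomogeneousLocalization

namespace Groth.Agent.GrTildeLib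

variable {R A : Type u} [CommRing R] [CommRing A] [Algebra R A] (𝒜 : ℕ → Submodule R A) [GradedAlgebra 𝒜]
variable {M : Type u} [AddCommGroup M] [Module R M] [Module A M] (ℳ : ℕ → Submodule R M)
variable [SetLike.GradedSMul 𝒜 ℳ] [DirectSum.Decomposition ℳ]

/-- The section `m / f ^ k` of `M~` on `D₊(f)`. -/
def fracPow {d : ℕ} {f : A} (hf : f ∈ 𝒜 d) (k : ℕ) (m : ℳ (k * d)) :
    Γ(GrTilde.tilde 𝒜 ℳ 0, Proj.basicOpen 𝒜 f) :=
  frac 𝒜 ℳ 0 (ProjectiveSpectrum.basicOpen 𝒜 f) m ⟨f ^ k, SetLike.pow_mem_graded k hf⟩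
    (fun x h ↦ x.2 (x.1.isPrime.mem_of_pow_mem k h)) (Or.inl (by simp))

theorem smul_fracPow {d : ℕ} {f : A} (hf : f ∈ 𝒜 d) (k : ℕ) {a : A} (ha : a ∈ 𝒜 (k • d)) (K : ℕ) (m : ℳ (K * d))
    (m' : ℳ ((k + K) * d)) (hm : m'.1 = a • m.1) :
    (Proj.awayToSection 𝒜 f).hom (Away.mk 𝒜 hf k a ha) • fracPow 𝒜 ℳ hf K m = fracPow 𝒜 ℳ hf (k + K) m' := by
  refine sect_ext 𝒜 ℳ fun x ↦ ?_
  rw [val_smul]
  erw [val_awayToSection]
  simp only [fracPow, val_frac]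
  rw [LocalizedModule.mk_smul_mk, hm]
  refine LocalizedModule.mk_eq.mpr ⟨1, ?_⟩
  simp [Submonoid.smul_def, pow_add]

theorem fracPow_add {d : ℕ} {f : A} (hf : f ∈ 𝒜 d) (k : ℕ) (m m' : ℳ (k * d)) :
    fracPow 𝒜 ℳ hf k (m + m') = fracPow 𝒜 ℳ hf k m + fracPow 𝒜 ℳ hf k m' := by
  refine sect_ext 𝒜 ℳ fun x ↦ ?_
  change LocalizedModule.mk (m.1 + m'.1) _ = LocalizedModule.mk m.1 _ + LocalizedModule.mk m'.1 _
  rw [LocalizedModule.mk_add_mk]
  refine LocalizedModule.mk_eq.mpr ⟨1, ?_⟩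
  simp [Submonoid.smul_def, smul_add, mul_smul]

theorem fracPow_congr {d : ℕ} {f : A} (hf : f ∈ 𝒜 d) {k k' : ℕ} (h : k = k') {m : ℳ (k * d)} {m' : ℳ (k' * d)}
    (hm : m.1 = m'.1) : fracPow 𝒜 ℳ hf k m = fracPow 𝒜 ℳ hf k' m' := by
  subst h
  exact congrArg _ (Subtype.ext hm)

theorem fracPow_zero {d : ℕ} {f : A} (hf : f ∈ 𝒜 d) (k : ℕ) : fracPow 𝒜 ℳ hf k 0 = 0 := by
  refine sect_ext 𝒜 ℳ fun x ↦ ?_
  simp only [fracPow, val_frac]
  exact LocalizedModule.zero_mk _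

theorem finite_sections_tilde (hfg : (HomogeneousIdeal.irrelevant 𝒜).toIdeal.FG)
    (hTF : ∃ n : ℕ, (Submodule.span A (⋃ k ∈ Set.Ici n, (ℳ k : Set M))).FG)
    {d : ℕ} (hd : 0 < d) {f : A} (hf : f ∈ 𝒜 d) :
    Module.Finite Γ(Proj 𝒜, Proj.basicOpen 𝒜 f) Γ(GrTilde.tilde 𝒜 ℳ 0, Proj.basicOpen 𝒜 f) := by
  classical
  obtain ⟨n, hn⟩ := hTF
  set Tl : Set M := ⋃ k ∈ Set.Ici n, (ℳ k : Set M)
  obtain ⟨T, hTs, hT⟩ := (Submodule.fg_span_iff_fg_span_finset_subset Tl).mp hn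
  have hdeg : ∀ z : T, ∃ k, (z : M) ∈ ℳ k := fun z ↦ by
    obtain ⟨k, -, hk⟩ := Set.mem_iUnion₂.mp (hTs z.2)
    exact ⟨k, hk⟩
  choose deg hdeg using hdeg
  obtain ⟨E, hE, hspan⟩ := EGA2G.exists_finset_of_irrelevant_fg (𝒜 := 𝒜) hfg
  choose w hw0 hw using fun e : E ↦ hE e.1 e.2
  have hadj : Algebra.adjoin (𝒜 0) (Set.range fun e : E ↦ (e : A)) = ⊤ := by
    rw [show Set.range (fun e : E ↦ (e : A)) = (E : Set A) by ext; simp]
    exact (EGA2G.irrelevant_eq_span_iff 𝒜 _ hE).mp hspan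
  -- generators
  let G : T × (E → Fin d) → Γ(GrTilde.tilde 𝒜 ℳ 0, Proj.basicOpen 𝒜 f) := fun p ↦
    if h : ∃ K : ℕ, (∑ e, (p.2 e : ℕ) * w e) + deg p.1 = K * d then
      fracPow 𝒜 ℳ hf h.choose ⟨(∏ e : E, (e : A) ^ (p.2 e : ℕ)) • (p.1 : M), h.choose_spec ▸
        SetLike.GradedSMul.smul_mem (A := 𝒜) (B := ℳ) (SetLike.prod_mem_graded _ _ _ fun e _ ↦ by
          simpa using SetLike.pow_mem_graded (p.2 e : ℕ) (hw e)) (hdeg p.1)⟩
    else 0
  set S := Submodule.span Γ(Proj 𝒜, Proj.basicOpen 𝒜 f) (Set.range G) with hS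
  -- monomial multiples of the generators
  have hmono : ∀ (z : T) (α : E → ℕ) (K : ℕ), (∑ e, α e * w e) + deg z = K * d →
      ∀ hm : (∏ e : E, (e : A) ^ α e) • (z : M) ∈ ℳ (K * d), fracPow 𝒜 ℳ hf K ⟨_, hm⟩ ∈ S := by
    intro z α K hK hm
    let r : E → Fin d := fun e ↦ ⟨α e % d, Nat.mod_lt _ hd⟩
    let Q := ∑ e, α e / d * w e
    have hsum : ∑ e, α e * w e = Q * d + ∑ e, α e % d * w e := by
      rw [Finset.sum_mul, ← Finset.sum_add_distrib]
      refine Finset.sum_congr rfl fun e _ ↦ ?_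
      conv_lhs => rw [← Nat.div_add_mod (α e) d]
      ring
    have hle : Q ≤ K := by
      refine Nat.le_of_mul_le_mul_right ?_ hd
      omega
    obtain ⟨K', rfl⟩ : ∃ K', K = Q + K' := ⟨K - Q, by omega⟩
    have hr : (∑ e, (r e : ℕ) * w e) + deg z = K' * d := by
      have h2 : (Q + K') * d = Q * d + K' * d := add_mul _ _ _
      simp only [r]; omega
    have hex : ∃ L : ℕ, (∑ e, (r e : ℕ) * w e) + deg z = L * d := ⟨K', hr⟩
    have hLK : hex.choose = K' := Nat.eq_of_mul_eq_mul_right hd (hex.choose_spec.symm.trans hr)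
    have hmemG : ∀ hm' : (∏ e : E, (e : A) ^ (r e : ℕ)) • (z : M) ∈ ℳ (K' * d),
        fracPow 𝒜 ℳ hf K' ⟨_, hm'⟩ ∈ S := by
      intro hm'
      refine Submodule.subset_span ⟨(z, r), ?_⟩
      simp only [G, dif_pos hex]
      revert hm'
      generalize_proofs _ hh
      revert hh
      rw [hLK]
      intros
      rfl
    have hm' : (∏ e : E, (e : A) ^ (r e : ℕ)) • (z : M) ∈ ℳ (K' * d) := hr ▸
      SetLike.GradedSMul.smul_mem (A := 𝒜) (B := ℳ) (SetLike.prod_mem_graded _ _ _ fun e _ ↦ by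
        simpa using SetLike.pow_mem_graded (r e : ℕ) (hw e)) (hdeg z)
    have ha : ∏ e : E, (e : A) ^ (α e / d * d) ∈ 𝒜 (Q • d) := by
      have h1 : ∏ e : E, (e : A) ^ (α e / d * d) ∈ 𝒜 (∑ e, α e / d * d * w e) :=
        SetLike.prod_mem_graded _ _ _ fun e _ ↦ by
          simpa using SetLike.pow_mem_graded (α e / d * d) (hw e)
      have : ∑ e, α e / d * d * w e = Q • d := by
        rw [smul_eq_mul, Finset.sum_mul]; exact Finset.sum_congr rfl fun e _ ↦ by ring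
      exact this ▸ h1
    have hprod : (∏ e : E, (e : A) ^ α e) =
        (∏ e : E, (e : A) ^ (α e / d * d)) * ∏ e : E, (e : A) ^ (r e : ℕ) := by
      rw [← Finset.prod_mul_distrib]
      refine Finset.prod_congr rfl fun e _ ↦ ?_
      rw [← pow_add]
      congr 1
      exact (Nat.div_add_mod' (α e) d).symm
    have hsm : (∏ e : E, (e : A) ^ α e) • (z : M) =
        (∏ e : E, (e : A) ^ (α e / d * d)) • ((∏ e : E, (e : A) ^ (r e : ℕ)) • (z : M)) := by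
      rw [hprod, mul_smul]
    rw [← smul_fracPow 𝒜 ℳ hf Q ha K' ⟨_, hm'⟩ ⟨_, hm⟩ hsm]
    exact Submodule.smul_mem _ _ (hmemG hm')
  -- homogeneous multiples
  have hhom : ∀ (z : T) (e : ℕ) (K : ℕ), e + deg z = K * d → ∀ a ∈ 𝒜 e,
      ∃ hm : a • (z : M) ∈ ℳ (K * d), fracPow 𝒜 ℳ hf K ⟨_, hm⟩ ∈ S := by
    intro z e K hK a ha
    have := EGA2G.mem_span_monomials 𝒜 (fun e : E ↦ (e : A)) w hw hadj ha
    clear ha
    induction this using Submodule.span_induction with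
    | mem a ha =>
      obtain ⟨α, hα, rfl⟩ := ha
      have hm : (∏ e : E, (e : A) ^ α e) • (z : M) ∈ ℳ (K * d) := hK ▸ hα ▸
        SetLike.GradedSMul.smul_mem (A := 𝒜) (B := ℳ) (SetLike.prod_mem_graded _ _ _ fun e _ ↦ by
          simpa using SetLike.pow_mem_graded (α e) (hw e)) (hdeg z)
      exact ⟨hm, hmono z α K (by omega) hm⟩
    | zero =>
      refine ⟨by rw [zero_smul]; exact zero_mem _, ?_⟩
      convert zero_mem S
      rw [← fracPow_zero 𝒜 ℳ hf K]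
      exact congrArg _ (Subtype.ext (zero_smul A (z : M)))
    | add a b _ _ ha hb =>
      obtain ⟨hma, hSa⟩ := ha
      obtain ⟨hmb, hSb⟩ := hb
      refine ⟨by rw [add_smul]; exact add_mem hma hmb, ?_⟩
      convert add_mem hSa hSb
      rw [← fracPow_add]
      exact congrArg _ (Subtype.ext (add_smul a b (z : M)))
    | smul c a _ ha =>
      obtain ⟨hma, hSa⟩ := ha
      have hm : (c • a) • (z : M) ∈ ℳ ((0 + K) * d) := by
        rw [Algebra.smul_def, mul_smul]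
        simpa using SetLike.GradedSMul.smul_mem (A := 𝒜) (B := ℳ) (show algebraMap (𝒜 0) A c ∈ 𝒜 0 from c.2) hma
      have h := smul_fracPow 𝒜 ℳ hf 0 (a := (c : A)) (by simpa using c.2) K ⟨_, hma⟩ ⟨_, hm⟩
        (by simp only; rw [Algebra.smul_def, mul_smul]; rfl)
      refine ⟨by simpa using hm, ?_⟩
      have h2 : fracPow 𝒜 ℳ hf (0 + K) ⟨_, hm⟩ ∈ S := h ▸ Submodule.smul_mem _ _ hSa
      convert h2 using 1
      exact fracPow_congr 𝒜 ℳ hf (Nat.zero_add K).symm rfl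
  refine ⟨⟨Finset.univ.image G, ?_⟩⟩
  rw [Finset.coe_image, Finset.coe_univ, Set.image_univ, eq_top_iff]
  intro s _
  obtain ⟨k, i, m, hi, hm⟩ := exists_eq_frac 𝒜 ℳ 0 hd hf (Proj.isAffineOpen_basicOpen 𝒜 f hf hd).isCompact s
  obtain rfl : i = k * d := by omega
  obtain ⟨K, hK⟩ : ∃ K, K = k + n := ⟨_, rfl⟩
  have hnK : n ≤ K * d := by
    have := Nat.le_mul_of_pos_right K hd; omega
  have hfm : f ^ n • m.1 ∈ ℳ (K * d) := by
    rw [hK, add_mul, add_comm]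
    exact SetLike.GradedSMul.smul_mem (A := 𝒜) (B := ℳ) (SetLike.pow_mem_graded n hf) m.2
  have hs : s = fracPow 𝒜 ℳ hf K ⟨_, hfm⟩ := sect_ext 𝒜 ℳ fun x ↦ by
    refine (hm x).trans (LocalizedModule.mk_eq.mpr ⟨1, ?_⟩)
    subst hK
    simp [Submonoid.smul_def, smul_smul, pow_add]
  rw [hs]
  have hmT : f ^ n • m.1 ∈ Submodule.span A (Set.range fun z : T ↦ (z : M)) := by
    rw [show Set.range (fun z : T ↦ (z : M)) = (T : Set M) by ext; simp, ← hT]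
    exact Submodule.subset_span (Set.mem_iUnion₂.mpr ⟨K * d, hnK, hfm⟩)
  obtain ⟨c, hc⟩ := (Submodule.mem_span_range_iff_exists_fun A).mp hmT
  have key : ∀ z : T, ∃ h : (DirectSum.decompose ℳ (c z • (z : M)) (K * d) : M) ∈ ℳ (K * d),
      fracPow 𝒜 ℳ hf K ⟨_, h⟩ ∈ S := by
    intro z
    refine ⟨SetLike.coe_mem _, ?_⟩
    by_cases hle : deg z ≤ K * d
    · obtain ⟨e, he⟩ : ∃ e, K * d = e + deg z := ⟨K * d - deg z, by omega⟩
      obtain ⟨hm2, h2⟩ := hhom z e K he.symm _ (SetLike.coe_mem (DirectSum.decompose 𝒜 (c z) e))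
      convert h2 using 3
      rw [he]
      exact decompose_smul_right 𝒜 ℳ _ (hdeg z) e
    · convert zero_mem S
      rw [← fracPow_zero 𝒜 ℳ hf K]
      refine congrArg _ (Subtype.ext ?_)
      conv_lhs => rw [← DirectSum.sum_support_decompose 𝒜 (c z)]
      rw [Finset.sum_smul, DirectSum.decompose_sum, DFinsupp.finsetSum_apply, Submodule.coe_sum]
      exact Finset.sum_eq_zero fun l _ ↦ DirectSum.decompose_of_mem_ne ℳ
        (SetLike.GradedSMul.smul_mem (A := 𝒜) (B := ℳ) (SetLike.coe_mem _) (hdeg z))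
        (show l + deg z ≠ K * d by omega)
  let Φ : ℳ (K * d) →+ Γ(GrTilde.tilde 𝒜 ℳ 0, Proj.basicOpen 𝒜 f) :=
    AddMonoidHom.mk' (fracPow 𝒜 ℳ hf K) (fracPow_add 𝒜 ℳ hf K)
  have hdec : (⟨_, hfm⟩ : ℳ (K * d)) = ∑ z : T, DirectSum.decompose ℳ (c z • (z : M)) (K * d) := by
    refine Subtype.ext ?_
    rw [← DFinsupp.finsetSum_apply, ← DirectSum.decompose_sum, hc]
    exact (DirectSum.decompose_of_mem_same ℳ hfm).symm
  change Φ ⟨_, hfm⟩ ∈ S
  rw [hdec, map_sum]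
  exact Submodule.sum_mem _ fun z _ ↦ (key z).2

/-- `M~` is of finite type. -/
theorem isFT_tilde (hfg : (HomogeneousIdeal.irrelevant 𝒜).toIdeal.FG)
    (hTF : ∃ n : ℕ, (Submodule.span A (⋃ k ∈ Set.Ici n, (ℳ k : Set M))).FG) :
    CohB1.IsFT (GrTilde.tilde 𝒜 ℳ 0) := by
  haveI := isQuasicoherent_tilde 𝒜 ℳ 0
  refine QCohBase.isFiniteType_of_finite _ fun p ↦ ?_
  obtain ⟨d, f, hd, hf, hpf⟩ : ∃ (d : ℕ) (f : A), 0 < d ∧ f ∈ 𝒜 d ∧ f ∉ p.asHomogeneousIdeal := by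
    by_contra hne
    push Not at hne
    refine p.not_irrelevant_le ?_
    rw [HomogeneousIdeal.irrelevant_le]
    exact fun i hi b hb ↦ hne i b hi hb
  exact ⟨Proj.basicOpen 𝒜 f, Proj.isAffineOpen_basicOpen 𝒜 f hf hd, hpf, finite_sections_tilde 𝒜 ℳ hfg hTF hd hf⟩

end Groth.Agent.GrTildeLib
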