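import Groth.Agent.GrTildeLib.QCoh

/-! When `M~` vanishes. -/

set_option autoImplicit false
set_option backward.isDefEq.respectTransparency false
set_option backward.isDefEq.respectTransparency.types false
set_option linter.unusedSectionVars false

noncomputable section

universe u

open CategoryTheory AlgebraicGeometry Opposite TopologicalSpace CategoryTheory.Limits

namespace Groth.Agent.GrTildeLib

variable {R A : Type u} [CommRing R] [CommRing A] [Algebra R A] (𝒜 : ℕ → Submodule R A) [GradedAlgebra 𝒜]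
variable {M : Type u} [AddCommGroup M] [Module R M] [Module A M] (ℳ : ℕ → Submodule R M)
variable [SetLike.GradedSMul 𝒜 ℳ]

lemma isZero_of_forall {X : Scheme.{u}} (F : X.Modules) (h : ∀ (U : X.Opens) (s : Γ(F, U)), s = 0) : IsZero F := by
  rw [IsZero.iff_id_eq_zero]
  apply Scheme.Modules.hom_ext
  intro U
  ext s
  exact (h U s).trans (h U _).symm

lemma eq_zero_of_isZero {X : Scheme.{u}} {F : X.Modules} (h : IsZero F) {U : X.Opens} (s : Γ(F, U)) : s = 0 := by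
  have h1 : ((𝟙 F : F ⟶ F).app U) s = ((0 : F ⟶ F).app U) s := by rw [h.eq_of_src (𝟙 F) 0]
  exact h1

/-- All members of every fibre of `M(n)~` at `x` are single fractions. -/
theorem exists_eq_mk (n : ℤ) (x : ProjectiveSpectrum 𝒜) (q : GrTilde.tildeAt 𝒜 ℳ n x) :
    ∃ (i j : ℕ) (m : ℳ i) (s : 𝒜 j) (hs : s.1 ∉ x.asHomogeneousIdeal),
      ((i : ℤ) = j + n ∨ m.1 = 0) ∧ q.1 = LocalizedModule.mk m.1 ⟨s.1, hs⟩ := by
  obtain ⟨q, hq⟩ := q
  induction hq using Submodule.span_induction with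
  | mem q hq =>
    obtain ⟨i, j, m, s, hs, h, e⟩ := hq
    exact ⟨i, j, m, s, hs, Or.inl h, e⟩
  | zero =>
    exact ⟨0, 0, 0, ⟨1, SetLike.GradedOne.one_mem⟩, fun h ↦ x.isPrime.ne_top ((Ideal.eq_top_iff_one _).mpr h),
      Or.inr rfl, (LocalizedModule.zero_mk _).symm⟩
  | add q q' _ _ hq hq' =>
    obtain ⟨i, j, ⟨m, hm⟩, ⟨s, hs⟩, hsx, h, e⟩ := hq
    obtain ⟨i', j', ⟨m', hm'⟩, ⟨s', hs'⟩, hsx', h', e'⟩ := hq'
    dsimp only at h h' e e' ⊢
    rcases h with h | rfl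
    · rcases h' with h' | rfl
      · have hmem : s' • m + s • m' ∈ ℳ (j' + i) := add_mem (SetLike.GradedSMul.smul_mem (A := 𝒜) (B := ℳ) hs' hm)
          ((show j + i' = j' + i by omega) ▸ SetLike.GradedSMul.smul_mem (A := 𝒜) (B := ℳ) hs hm')
        refine ⟨j' + i, j + j', ⟨_, hmem⟩, ⟨s * s', SetLike.mul_mem_graded hs hs'⟩,
          fun hh ↦ (x.isPrime.mem_or_mem hh).elim hsx hsx', Or.inl (by push_cast; omega), ?_⟩
        rw [e, e', LocalizedModule.mk_add_mk]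
        rfl
      · refine ⟨i, j, ⟨m, hm⟩, ⟨s, hs⟩, hsx, Or.inl h, ?_⟩
        rw [e, e', LocalizedModule.zero_mk, add_zero]
    · refine ⟨i', j', ⟨m', hm'⟩, ⟨s', hs'⟩, hsx', h', ?_⟩
      rw [e, e', LocalizedModule.zero_mk, zero_add]
  | smul c q _ hq =>
    obtain ⟨i, j, ⟨m, hm⟩, ⟨s, hs⟩, hsx, h, e⟩ := hq
    dsimp only at h e ⊢
    obtain ⟨⟨k, ⟨a, ha⟩, ⟨b, hb⟩, hbx⟩, rfl⟩ := HomogeneousLocalization.mk_surjective c
    refine ⟨k + i, k + j, ⟨a • m, SetLike.GradedSMul.smul_mem (A := 𝒜) (B := ℳ) ha hm⟩,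
      ⟨b * s, SetLike.mul_mem_graded hb hs⟩, fun hh ↦ (x.isPrime.mem_or_mem hh).elim hbx hsx, ?_, ?_⟩
    · rcases h with h | rfl
      · exact Or.inl (by push_cast; omega)
      · exact Or.inr (smul_zero a)
    · rw [GrTilde.a0_smul_def, e, HomogeneousLocalization.val_mk, LocalizedModule.mk_smul_mk]
      rfl

theorem bijective_stalkToFiber [DirectSum.Decomposition ℳ] (n : ℤ) (p : ProjectiveSpectrum 𝒜) :
    Function.Bijective (TopCat.stalkToFiber (GrTilde.isLocFrac 𝒜 ℳ n) p) := by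
  refine ⟨TopCat.stalkToFiber_injective _ _ fun U V fU hU fV hV he ↦ ?_,
    TopCat.stalkToFiber_surjective _ _ fun q ↦ ?_⟩
  · obtain ⟨Wa, hWa, ia, i, j, ⟨m, hm⟩, ⟨s, hs⟩, nins, hdeg, hw⟩ := hU ⟨p, U.2⟩
    obtain ⟨Wb, hWb, ib, i', j', ⟨m', hm'⟩, ⟨t, ht⟩, nint, hdeg', hw'⟩ := hV ⟨p, V.2⟩
    dsimp only at hdeg hdeg' hw hw'
    have h1 : (fU ⟨p, U.2⟩).1 = (fV ⟨p, V.2⟩).1 := congrArg Subtype.val he
    have h2 : (LocalizedModule.mk m ⟨s, nins ⟨p, hWa⟩⟩ : GrTilde.LocMod 𝒜 (M := M) p) =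
        LocalizedModule.mk m' ⟨t, nint ⟨p, hWb⟩⟩ := ((hw ⟨p, hWa⟩).symm.trans h1).trans (hw' ⟨p, hWb⟩)
    obtain ⟨⟨c, hc⟩, hcu⟩ := LocalizedModule.mk_eq.mp h2
    obtain ⟨e, he'⟩ : ∃ e, t • m - s • m' ∈ ℳ e := by
      rcases hdeg with hdeg | rfl
      · rcases hdeg' with hdeg' | rfl
        · exact ⟨j' + i, sub_mem (SetLike.GradedSMul.smul_mem (A := 𝒜) (B := ℳ) ht hm)
            ((show j + i' = j' + i by omega) ▸ SetLike.GradedSMul.smul_mem (A := 𝒜) (B := ℳ) hs hm')⟩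
        · rw [smul_zero, sub_zero]; exact ⟨_, SetLike.GradedSMul.smul_mem (A := 𝒜) (B := ℳ) ht hm⟩
      · rw [smul_zero, zero_sub]; exact ⟨_, neg_mem (SetLike.GradedSMul.smul_mem (A := 𝒜) (B := ℳ) hs hm')⟩
    obtain ⟨k, w, hwk, hwp, hw0⟩ := exists_homogeneous_killer 𝒜 ℳ (x := p) hc he'
      (by rw [smul_sub, sub_eq_zero]; simpa only [Submonoid.smul_def] using hcu)
    let W : Opens (ProjectiveSpectrum.top 𝒜) := Wa ⊓ Wb ⊓ ProjectiveSpectrum.basicOpen 𝒜 w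
    refine ⟨⟨W, ⟨⟨hWa, hWb⟩, hwp⟩⟩, homOfLE (show W ≤ U.1 from inf_le_left.trans (inf_le_left.trans ia.le)),
      homOfLE (show W ≤ V.1 from inf_le_left.trans (inf_le_right.trans ib.le)), fun z ↦ Subtype.ext ?_⟩
    refine ((hw ⟨z.1, z.2.1.1⟩).trans ?_).trans (hw' ⟨z.1, z.2.1.2⟩).symm
    refine LocalizedModule.mk_eq.mpr ⟨⟨w, z.2.2⟩, ?_⟩
    simp only [Submonoid.smul_def]
    rwa [smul_sub, sub_eq_zero] at hw0
  · obtain ⟨i, j, m, s, hs, h, e⟩ := exists_eq_mk 𝒜 ℳ n p q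
    let f := frac 𝒜 ℳ n (ProjectiveSpectrum.basicOpen 𝒜 s.1) m s (fun y ↦ y.2) h
    exact ⟨⟨ProjectiveSpectrum.basicOpen 𝒜 s.1, hs⟩, f.1, f.2, Subtype.ext e.symm⟩

variable [DirectSum.Decomposition ℳ]

theorem isZero_tilde (n : ℤ) (h : ∀ (z : M) (d : ℕ) (f : A), 0 < d → f ∈ 𝒜 d → ∃ k : ℕ, f ^ k • z = 0) :
    IsZero (GrTilde.tilde 𝒜 ℳ n) := by
  refine isZero_of_forall _ fun U s ↦ sect_ext 𝒜 ℳ fun x ↦ ?_
  obtain ⟨d, f, hd, hf, hfx⟩ : ∃ (d : ℕ) (f : A), 0 < d ∧ f ∈ 𝒜 d ∧ f ∉ x.1.asHomogeneousIdeal := by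
    by_contra hne
    push Not at hne
    refine x.1.not_irrelevant_le ?_
    rw [HomogeneousIdeal.irrelevant_le]
    exact fun i hi b hb ↦ hne i b hi hb
  obtain ⟨i, j, m, t, ht, -, e⟩ := exists_eq_mk 𝒜 ℳ n x.1 (s.1 x)
  obtain ⟨k, hk⟩ := h m.1 d f hd hf
  change (s.1 x).1 = 0
  rw [e]
  exact (mk_eq_zero_iff 𝒜 _ _).mpr ⟨f ^ k, fun hh ↦ hfx (x.1.isPrime.mem_of_pow_mem k hh), hk⟩

theorem exists_pow_smul_eq_zero_of_isZero (hgen : (HomogeneousIdeal.irrelevant 𝒜).toIdeal = Ideal.span (𝒜 1 : Set A))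
    (h : IsZero (GrTilde.tilde 𝒜 ℳ 0)) (z : M) {d : ℕ} {f : A} (hd : 0 < d) (hf : f ∈ 𝒜 d) :
    ∃ k : ℕ, f ^ k • z = 0 := by
  induction z using DirectSum.Decomposition.inductionOn ℳ with
  | zero => exact ⟨0, smul_zero _⟩
  | homogeneous m =>
    rename_i i
    refine exists_pow_smul_eq_zero 𝒜 ℳ hd hf m.2 fun y _ ↦ ?_
    obtain ⟨g, hg, hgy⟩ : ∃ g, g ∈ 𝒜 1 ∧ g ∉ y.asHomogeneousIdeal := by
      by_contra hne
      push Not at hne
      refine y.not_irrelevant_le ?_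
      intro b hb
      have hb' : b ∈ Ideal.span (𝒜 1 : Set A) := hgen.le hb
      exact (Ideal.span_le.mpr fun g hg ↦ hne g hg) hb'
    let s : Γ(GrTilde.tilde 𝒜 ℳ 0, (ProjectiveSpectrum.basicOpen 𝒜 g : (Proj 𝒜).Opens)) :=
      frac 𝒜 ℳ 0 (ProjectiveSpectrum.basicOpen 𝒜 g) m ⟨g ^ i, by simpa using SetLike.pow_mem_graded i hg⟩
        (fun y h ↦ y.2 (y.1.isPrime.mem_of_pow_mem i h)) (Or.inl (by simp))
    have h1 : val 𝒜 ℳ s ⟨y, hgy⟩ = 0 := by rw [eq_zero_of_isZero h s]; rfl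
    exact (mk_eq_zero_iff 𝒜 _ _).mp h1
  | add a b ha hb =>
    obtain ⟨k, hk⟩ := ha
    obtain ⟨l, hl⟩ := hb
    refine ⟨k + l, ?_⟩
    rw [smul_add, pow_add, mul_smul _ _ b, hl, smul_zero, mul_comm, mul_smul, hk, smul_zero, add_zero]

lemma mem_pow_irrelevant (hgen : (HomogeneousIdeal.irrelevant 𝒜).toIdeal = Ideal.span (𝒜 1 : Set A)) :
    ∀ (k : ℕ) (a : A), a ∈ 𝒜 k → a ∈ (HomogeneousIdeal.irrelevant 𝒜).toIdeal ^ k
  | 0, a, _ => by simp
  | k + 1, a, ha => by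
    classical
    have hmem : a ∈ Ideal.span (𝒜 1 : Set A) := hgen ▸ HomogeneousIdeal.mem_irrelevant_of_mem 𝒜 k.succ_pos ha
    obtain ⟨n, c, g, hc⟩ := Submodule.mem_span_set'.mp hmem
    rw [← DirectSum.decompose_of_mem_same 𝒜 ha, ← hc, DirectSum.decompose_sum, DFinsupp.finsetSum_apply,
      Submodule.coe_sum]
    refine Submodule.sum_mem _ fun j _ ↦ ?_
    rw [smul_eq_mul, coe_decompose_mul_right 𝒜 _ (g j).2, if_pos (Nat.le_add_left 1 k), Nat.add_sub_cancel, pow_succ]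
    refine Ideal.mul_mem_mul (mem_pow_irrelevant hgen k _ (SetLike.coe_mem _)) ?_
    rw [hgen]
    exact Ideal.subset_span (g j).2

theorem isZero_tilde_iff (hfg : (HomogeneousIdeal.irrelevant 𝒜).toIdeal.FG)
    (hgen : (HomogeneousIdeal.irrelevant 𝒜).toIdeal = Ideal.span (𝒜 1 : Set A))
    (hTF : ∃ n : ℕ, (Submodule.span A (⋃ k ∈ Set.Ici n, (ℳ k : Set M))).FG) :
    IsZero (GrTilde.tilde 𝒜 ℳ 0) ↔ ∃ n : ℕ, ∀ k : ℕ, n ≤ k → ℳ k = ⊥ := by
  classical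
  constructor
  · intro h
    obtain ⟨n, hn⟩ := hTF
    set Tl : Set M := ⋃ k ∈ Set.Ici n, (ℳ k : Set M)
    obtain ⟨T, hTs, hT⟩ := (Submodule.fg_span_iff_fg_span_finset_subset Tl).mp hn
    have hdeg : ∀ z : T, ∃ k, (z : M) ∈ ℳ k := fun z ↦ by
      obtain ⟨k, -, hk⟩ := Set.mem_iUnion₂.mp (hTs z.2)
      exact ⟨k, hk⟩
    choose deg hdeg using hdeg
    let J : Ideal A := Submodule.annihilator (Submodule.span A (T : Set M))
    have hle : (HomogeneousIdeal.irrelevant 𝒜).toIdeal ≤ J.radical := by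
      rw [hgen, Ideal.span_le]
      intro g hg
      choose K hK using fun z : T ↦ exists_pow_smul_eq_zero_of_isZero 𝒜 ℳ hgen h (z : M) one_pos hg
      refine ⟨T.attach.sup K, (Submodule.mem_annihilator_span _ _).mpr fun z ↦ ?_⟩
      have hz : K ⟨z.1, z.2⟩ ≤ T.attach.sup K := Finset.le_sup (Finset.mem_attach T ⟨z.1, z.2⟩)
      rw [← Nat.sub_add_cancel hz, pow_add, mul_smul]
      exact (congrArg _ (hK ⟨z.1, z.2⟩)).trans (smul_zero _)
    obtain ⟨N, hN⟩ := Ideal.exists_pow_le_of_le_radical_of_fg hle hfg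
    refine ⟨N + n + T.attach.sup deg, fun k hk ↦ eq_bot_iff.mpr fun m hm ↦ ?_⟩
    have hmT : m ∈ Submodule.span A (Set.range fun z : T ↦ (z : M)) := by
      rw [show Set.range (fun z : T ↦ (z : M)) = (T : Set M) by ext; simp, ← hT]
      exact Submodule.subset_span (Set.mem_iUnion₂.mpr ⟨k, show n ≤ k by omega, hm⟩)
    obtain ⟨c, hc⟩ := (Submodule.mem_span_range_iff_exists_fun A).mp hmT
    rw [Submodule.mem_bot, ← DirectSum.decompose_of_mem_same ℳ hm, ← hc, DirectSum.decompose_sum,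
      DFinsupp.finsetSum_apply, Submodule.coe_sum]
    refine Finset.sum_eq_zero fun z _ ↦ ?_
    have hz : deg z ≤ T.attach.sup deg := Finset.le_sup (Finset.mem_attach _ _)
    obtain ⟨l, rfl⟩ : ∃ l, k = l + deg z := ⟨k - deg z, by omega⟩
    rw [decompose_smul_right 𝒜 ℳ _ (hdeg z) l]
    have hJ : (DirectSum.decompose 𝒜 (c z) l : A) ∈ J :=
      hN (Ideal.pow_le_pow_right (show N ≤ l by omega) (mem_pow_irrelevant 𝒜 hgen l _ (SetLike.coe_mem _)))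
    exact (Submodule.mem_annihilator_span _ _).mp hJ ⟨z.1, z.2⟩
  · rintro ⟨n, hn⟩
    refine isZero_tilde 𝒜 ℳ 0 fun z d f hd hf ↦ ⟨n, ?_⟩
    induction z using DirectSum.Decomposition.inductionOn ℳ with
    | zero => exact smul_zero _
    | homogeneous m =>
      rename_i i
      have h1 : f ^ n • m.1 ∈ ℳ (n * d + i) :=
        SetLike.GradedSMul.smul_mem (A := 𝒜) (B := ℳ) (SetLike.pow_mem_graded n hf) m.2
      rw [hn _ (by have := Nat.le_mul_of_pos_right n hd; omega)] at h1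
      exact (Submodule.mem_bot _).mp h1
    | add a b ha hb => rw [smul_add, ha, hb, add_zero]

end Groth.Agent.GrTildeLib
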