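import Groth.Agent.GrTildeLib.PolyMod
import Groth.Agent.GrTildeLib.Zero
import Groth.Agent.AssPts.Basic
import Groth.Agent.QCohBase.Finite

/-! A quasi-coherent module on Proj is `M~`. -/

set_option autoImplicit false
set_option backward.isDefEq.respectTransparency false
set_option backward.isDefEq.respectTransparency.types false
set_option linter.unusedSectionVars false
set_option linter.style.haveILetI false

noncomputable section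

universe u

open CategoryTheory AlgebraicGeometry Opposite TopologicalSpace HomogeneousLocalization
open Groth.Agent.QCohBase DirectSum

namespace Groth.Agent.GrTildeLib

variable {R A : Type u} [CommRing R] [CommRing A] [Algebra R A] (𝒜 : ℕ → Submodule R A) [GradedAlgebra 𝒜]
variable (F : (Proj 𝒜).Modules) {s : Finset A} (hs1 : ∀ g : s, (g : A) ∈ 𝒜 1)
variable (G : Set (Fam 𝒜 F hs1))

/-- The component of a homogeneous element. -/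
abbrev pc {j : ℕ} (g : s) (m : subGrading 𝒜 F hs1 G j) : Γ(F, chartOpen 𝒜 g) := piece 𝒜 F hs1 j g m.1.1

lemma smul_mem_subGrading {j k : ℕ} {a : A} (ha : a ∈ 𝒜 k) (m : subGrading 𝒜 F hs1 G j) :
    a • m.1 ∈ subGrading 𝒜 F hs1 G (k + j) := (smul_mem_homFam 𝒜 F hs1 m.2 ha).1

lemma pc_smul {j k : ℕ} {a : A} (ha : a ∈ 𝒜 k) (m : subGrading 𝒜 F hs1 G j) (g : s) :
    pc 𝒜 F hs1 G g (⟨a • m.1, smul_mem_subGrading 𝒜 F hs1 G ha m⟩ : subGrading 𝒜 F hs1 G (k + j)) =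
      cfun 𝒜 (hs1 g) k a ha • pc 𝒜 F hs1 G g m :=
  (smul_mem_homFam 𝒜 F hs1 m.2 ha).2 g

lemma pc_congr {j k : ℕ} (h : j = k) {m : subGrading 𝒜 F hs1 G j} {m' : subGrading 𝒜 F hs1 G k}
    (hm : m.1 = m'.1) (g : s) : pc 𝒜 F hs1 G g m = pc 𝒜 F hs1 G g m' := by
  subst h
  rw [Subtype.ext hm]

lemma pc_zero (j : ℕ) (g : s) : pc 𝒜 F hs1 G g (0 : subGrading 𝒜 F hs1 G j) = 0 := map_zero _

lemma pc_add {j : ℕ} (m m' : subGrading 𝒜 F hs1 G j) (g : s) :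
    pc 𝒜 F hs1 G g (m + m') = pc 𝒜 F hs1 G g m + pc 𝒜 F hs1 G g m' := map_add _ _ _

lemma exists_rep (y : ProjectiveSpectrum 𝒜) (q : GrTilde.tildeAt 𝒜 (subGrading 𝒜 F hs1 G) 0 y) :
    ∃ (j : ℕ) (m : subGrading 𝒜 F hs1 G j) (t : 𝒜 j) (ht : t.1 ∉ y.asHomogeneousIdeal),
      q.1 = LocalizedModule.mk m.1 ⟨t.1, ht⟩ := by
  obtain ⟨i, j, m, t, ht, h, e⟩ := exists_eq_mk 𝒜 (subGrading 𝒜 F hs1 G) 0 y q
  rcases h with h | h
  · obtain rfl : i = j := by omega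
    exact ⟨i, m, t, ht, e⟩
  · exact ⟨j, 0, t, ht, by rw [e, h]; rfl⟩

/-- `z` is the image of `q` in the stalk. -/
def IsRel (y : Proj 𝒜) (q : GrTilde.LocMod 𝒜 (M := SubMod 𝒜 F hs1 G) y) (z : F.presheaf.stalk y) : Prop :=
  ∀ (g : s) (hg : y ∈ chartOpen 𝒜 g) (j : ℕ) (m : subGrading 𝒜 F hs1 G j) (t : 𝒜 j)
    (ht : t.1 ∉ y.asHomogeneousIdeal), q = LocalizedModule.mk m.1 ⟨t.1, ht⟩ →
    (Proj 𝒜).presheaf.germ _ y hg (cfun 𝒜 (hs1 g) j t.1 t.2) • z = F.presheaf.germ _ y hg (pc 𝒜 F hs1 G g m)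

lemma rel_change {y : Proj 𝒜} {g h : s} (hg : y ∈ chartOpen 𝒜 g) (hh : y ∈ chartOpen 𝒜 h) {j : ℕ}
    (m : subGrading 𝒜 F hs1 G j) (t : 𝒜 j) {z : F.presheaf.stalk y}
    (e : (Proj 𝒜).presheaf.germ _ y hh (cfun 𝒜 (hs1 h) j t.1 t.2) • z = F.presheaf.germ _ y hh (pc 𝒜 F hs1 G h m)) :
    (Proj 𝒜).presheaf.germ _ y hg (cfun 𝒜 (hs1 g) j t.1 t.2) • z = F.presheaf.germ _ y hg (pc 𝒜 F hs1 G g m) := by
  let W := chartOpen 𝒜 g ⊓ chartOpen 𝒜 h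
  have hyW : y ∈ W := ⟨hg, hh⟩
  have e1 : ores (inf_le_left : W ≤ chartOpen 𝒜 g) (cfun 𝒜 (hs1 g) j t.1 t.2) = _ :=
    cfun_change 𝒜 (hs1 g) (hs1 h) t.2 inf_le_left (inf_le_right : W ≤ chartOpen 𝒜 h)
  have e2 := m.2.2 g h W inf_le_left inf_le_right
  have r1 : ∀ (U : (Proj 𝒜).Opens) (hU : W ≤ U) (r : Γ(Proj 𝒜, U)),
      (Proj 𝒜).presheaf.germ W y hyW (ores hU r) = (Proj 𝒜).presheaf.germ U y (hU hyW) r :=
    fun U hU r ↦ TopCat.Presheaf.germ_res_apply (Proj 𝒜).presheaf (homOfLE hU) y hyW r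
  rw [← r1 _ inf_le_left, e1, map_mul, r1 _ inf_le_right, mul_smul, e, ← AssPts.germ_mres F y
    (inf_le_right : W ≤ chartOpen 𝒜 h) hyW, ← AssPts.germ_smul', ← AssPts.germ_mres F y
    (inf_le_left : W ≤ chartOpen 𝒜 g) hyW]
  exact (congrArg _ e2).symm

lemma rel_of_eq {y : Proj 𝒜} (g : s) (hg : y ∈ chartOpen 𝒜 g) {j : ℕ} (m : subGrading 𝒜 F hs1 G j) (t : 𝒜 j)
    (ht : t.1 ∉ y.asHomogeneousIdeal) {z : F.presheaf.stalk y}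
    (e : (Proj 𝒜).presheaf.germ _ y hg (cfun 𝒜 (hs1 g) j t.1 t.2) • z = F.presheaf.germ _ y hg (pc 𝒜 F hs1 G g m))
    (hdec : DirectSum.IsInternal (subGrading 𝒜 F hs1 G)) :
    IsRel 𝒜 F hs1 G y (LocalizedModule.mk m.1 ⟨t.1, ht⟩) z := by
  letI : DirectSum.Decomposition (subGrading 𝒜 F hs1 G) := hdec.chooseDecomposition
  intro h hh j' m' t' ht' heq
  refine rel_change 𝒜 F hs1 G hh hg m' t' ?_
  obtain ⟨⟨c, hc⟩, hcu⟩ := LocalizedModule.mk_eq.mp heq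
  let a : subGrading 𝒜 F hs1 G (j' + j) := ⟨t'.1 • m.1, smul_mem_subGrading 𝒜 F hs1 G t'.2 m⟩
  have hb : t.1 • m'.1 ∈ subGrading 𝒜 F hs1 G (j' + j) :=
    (add_comm j j') ▸ smul_mem_subGrading 𝒜 F hs1 G t.2 m'
  obtain ⟨k, w, hwk, hwy, hw⟩ := exists_homogeneous_killer 𝒜 (subGrading 𝒜 F hs1 G) (x := y) hc
    (sub_mem a.2 hb) (by rw [smul_sub, sub_eq_zero]; simpa only [Submonoid.smul_def] using hcu)
  rw [smul_sub, sub_eq_zero] at hw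
  have h1 : cfun 𝒜 (hs1 g) k w hwk • cfun 𝒜 (hs1 g) j' t'.1 t'.2 • pc 𝒜 F hs1 G g m =
      cfun 𝒜 (hs1 g) k w hwk • cfun 𝒜 (hs1 g) j t.1 t.2 • pc 𝒜 F hs1 G g m' := by
    rw [← pc_smul 𝒜 F hs1 G t'.2 m, ← pc_smul 𝒜 F hs1 G t.2 m', ← pc_smul 𝒜 F hs1 G hwk, ← pc_smul 𝒜 F hs1 G hwk]
    exact pc_congr 𝒜 F hs1 G (by omega) hw g
  have h2 := congrArg (F.presheaf.germ _ y hg) h1
  simp only [AssPts.germ_smul'] at h2
  rw [(isUnit_germ_cfun 𝒜 (hs1 g) hwk hg hwy).smul_left_cancel, ← e, smul_comm] at h2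
  exact (isUnit_germ_cfun 𝒜 (hs1 g) t.2 hg ht).smul_left_cancel.mp h2

variable (hcov : ∀ y : ProjectiveSpectrum 𝒜, ∃ g : s, (g : A) ∉ y.asHomogeneousIdeal)

include hcov in
lemma rel_unique {y : Proj 𝒜} {q : GrTilde.tildeAt 𝒜 (subGrading 𝒜 F hs1 G) 0 y} {z z' : F.presheaf.stalk y}
    (h : IsRel 𝒜 F hs1 G y q.1 z) (h' : IsRel 𝒜 F hs1 G y q.1 z') : z = z' := by
  obtain ⟨j, m, t, ht, e⟩ := exists_rep 𝒜 F hs1 G y q
  obtain ⟨g, hg⟩ := hcov y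
  exact (isUnit_germ_cfun 𝒜 (hs1 g) t.2 hg ht).smul_left_cancel.mp
    ((h g hg j m t ht e).trans (h' g hg j m t ht e).symm)

variable {U : (Proj 𝒜).Opens} (hdec : DirectSum.IsInternal (subGrading 𝒜 F hs1 G))

/-- `τ` is the image of `σ`. -/
def IsImage (σ : Γ(GrTilde.tilde 𝒜 (subGrading 𝒜 F hs1 G) 0, U)) (τ : Γ(F, U)) : Prop :=
  ∀ (y : Proj 𝒜) (hy : y ∈ U), IsRel 𝒜 F hs1 G y (val 𝒜 (subGrading 𝒜 F hs1 G) σ ⟨y, hy⟩) (F.presheaf.germ U y hy τ)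

include hcov hdec in
lemma exists_isImage (σ : Γ(GrTilde.tilde 𝒜 (subGrading 𝒜 F hs1 G) 0, U)) :
    ∃ τ, IsImage 𝒜 F hs1 G σ τ := by
  have key : ∀ y : U, ∃ (W : (Proj 𝒜).Opens) (hW : W ≤ U) (τ : Γ(F, W)), y.1 ∈ W ∧
      ∀ (z : Proj 𝒜) (hz : z ∈ W), IsRel 𝒜 F hs1 G z (val 𝒜 (subGrading 𝒜 F hs1 G) σ ⟨z, hW hz⟩)
        (F.presheaf.germ W z hz τ) := by
    intro y
    obtain ⟨Va, hVa, ia, i, j, m₀, t, nin, hdeg, hw⟩ := σ.2 y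
    obtain ⟨m, hm⟩ : ∃ m : subGrading 𝒜 F hs1 G j, m.1 = m₀.1 := by
      rcases hdeg with h | h
      · obtain rfl : i = j := by omega
        exact ⟨m₀, rfl⟩
      · exact ⟨0, h.symm⟩
    obtain ⟨g, hg⟩ := hcov y.1
    let W : (Proj 𝒜).Opens := Va ⊓ chartOpen 𝒜 g ⊓ Proj.basicOpen 𝒜 t.1
    have hWg : W ≤ chartOpen 𝒜 g := inf_le_left.trans inf_le_right
    obtain ⟨r, hr⟩ := (isUnit_ores_cfun 𝒜 (hs1 g) t.2 hWg inf_le_right).exists_right_inv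
    refine ⟨W, inf_le_left.trans (inf_le_left.trans ia.le), r • mres F hWg (pc 𝒜 F hs1 G g m),
      ⟨⟨hVa, hg⟩, nin ⟨y.1, hVa⟩⟩, fun z hz ↦ ?_⟩
    have hv : val 𝒜 (subGrading 𝒜 F hs1 G) σ ⟨z, ia.le hz.1.1⟩ = LocalizedModule.mk m₀.1 ⟨t.1, nin ⟨z, hz.1.1⟩⟩ :=
      hw ⟨z, hz.1.1⟩
    rw [hv, ← hm]
    refine rel_of_eq 𝒜 F hs1 G g (hWg hz) m t _ ?_ hdec
    rw [AssPts.germ_smul', AssPts.germ_mres, smul_smul]
    have h1 := congrArg ((Proj 𝒜).presheaf.germ W z hz) hr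
    rw [map_mul, map_one] at h1
    have h2 : (Proj 𝒜).presheaf.germ W z hz (ores hWg (cfun 𝒜 (hs1 g) j t.1 t.2)) =
        (Proj 𝒜).presheaf.germ _ z (hWg hz) (cfun 𝒜 (hs1 g) j t.1 t.2) :=
      TopCat.Presheaf.germ_res_apply (Proj 𝒜).presheaf (homOfLE hWg) z hz _
    rw [h2] at h1
    rw [h1, one_smul]
  choose W hW τ hyW hτ using key
  have hcovW : U ≤ ⨆ y : U, W y := fun y hy ↦ Opens.mem_iSup.mpr ⟨⟨y, hy⟩, hyW ⟨y, hy⟩⟩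
  obtain ⟨T, hT, -⟩ := TopCat.Sheaf.existsUnique_gluing' ⟨F.presheaf, F.isSheaf⟩ W U (fun y ↦ homOfLE (hW y)) hcovW τ
    (fun a b ↦ TopCat.Presheaf.section_ext ⟨F.presheaf, F.isSheaf⟩ _ _ _ fun z hz ↦ by
      refine (AssPts.germ_mres F z inf_le_left hz _).trans (Eq.trans ?_ (AssPts.germ_mres F z inf_le_right hz _).symm)
      exact rel_unique 𝒜 F hs1 G hcov (hτ a z hz.1) (hτ b z hz.2))
  refine ⟨T, fun z hz ↦ ?_⟩
  have := hτ ⟨z, hz⟩ z (hyW _)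
  rw [← show mres F (hW ⟨z, hz⟩) T = τ ⟨z, hz⟩ from hT ⟨z, hz⟩, AssPts.germ_mres] at this
  exact this

include hcov in
lemma isImage_unique {σ : Γ(GrTilde.tilde 𝒜 (subGrading 𝒜 F hs1 G) 0, U)} {τ τ' : Γ(F, U)}
    (h : IsImage 𝒜 F hs1 G σ τ) (h' : IsImage 𝒜 F hs1 G σ τ') : τ = τ' :=
  TopCat.Presheaf.section_ext ⟨F.presheaf, F.isSheaf⟩ U _ _ fun z hz ↦
    rel_unique 𝒜 F hs1 G hcov (h z hz) (h' z hz)

include hcov hdec in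
lemma isImage_add {σ σ' : Γ(GrTilde.tilde 𝒜 (subGrading 𝒜 F hs1 G) 0, U)} {τ τ' : Γ(F, U)}
    (h : IsImage 𝒜 F hs1 G σ τ) (h' : IsImage 𝒜 F hs1 G σ' τ') : IsImage 𝒜 F hs1 G (σ + σ') (τ + τ') := by
  intro y hy
  obtain ⟨g, hg⟩ := hcov y
  obtain ⟨j, m, t, ht, e⟩ := exists_rep 𝒜 F hs1 G y (σ.1 ⟨y, hy⟩)
  obtain ⟨j', m', t', ht', e'⟩ := exists_rep 𝒜 F hs1 G y (σ'.1 ⟨y, hy⟩)
  let a : subGrading 𝒜 F hs1 G (j' + j) := ⟨t'.1 • m.1, smul_mem_subGrading 𝒜 F hs1 G t'.2 m⟩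
  let b : subGrading 𝒜 F hs1 G (j' + j) := ⟨t.1 • m'.1, (add_comm j j') ▸ smul_mem_subGrading 𝒜 F hs1 G t.2 m'⟩
  have hv : val 𝒜 (subGrading 𝒜 F hs1 G) (σ + σ') ⟨y, hy⟩ =
      LocalizedModule.mk (a + b).1 (⟨t'.1 * t.1, fun h ↦ (y.isPrime.mem_or_mem h).elim ht' ht⟩ : y.asHomogeneousIdeal.toIdeal.primeCompl) := by
    change (σ.1 ⟨y, hy⟩).1 + (σ'.1 ⟨y, hy⟩).1 = _
    rw [e, e', LocalizedModule.mk_add_mk]
    refine LocalizedModule.mk_eq.mpr ⟨1, ?_⟩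
    simp [a, b, Submonoid.smul_def, mul_comm t'.1 t.1]
  rw [hv]
  refine rel_of_eq 𝒜 F hs1 G g hg (a + b) ⟨_, SetLike.mul_mem_graded t'.2 t.2⟩ _ ?_ hdec
  have hb : pc 𝒜 F hs1 G g b = cfun 𝒜 (hs1 g) j t.1 t.2 • pc 𝒜 F hs1 G g m' :=
    (pc_congr 𝒜 F hs1 G (add_comm j' j) rfl g).trans (pc_smul 𝒜 F hs1 G t.2 m' g)
  rw [pc_add, hb, pc_smul 𝒜 F hs1 G t'.2 m, map_add, map_add, AssPts.germ_smul', AssPts.germ_smul',
    ← cfun_mul 𝒜 (hs1 g) t'.2 t.2, map_mul, ← h y hy g hg j m t ht e, ← h' y hy g hg j' m' t' ht' e', smul_add,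
    smul_smul, smul_smul]
  congr 2
  exact mul_comm _ _

include hcov hdec in
lemma isImage_smul {σ : Γ(GrTilde.tilde 𝒜 (subGrading 𝒜 F hs1 G) 0, U)} {τ : Γ(F, U)}
    (h : IsImage 𝒜 F hs1 G σ τ) (r : Γ(Proj 𝒜, U)) : IsImage 𝒜 F hs1 G (r • σ) (r • τ) := by
  intro y hy
  obtain ⟨g, hg⟩ := hcov y
  obtain ⟨j, m, t, ht, e⟩ := exists_rep 𝒜 F hs1 G y (σ.1 ⟨y, hy⟩)
  letI : DirectSum.Decomposition (subGrading 𝒜 F hs1 G) := hdec.chooseDecomposition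
  obtain ⟨W, hyW, iW, k, ⟨a, ha⟩, ⟨b, hb⟩, nin, hw⟩ := r.2 ⟨y, hy⟩
  have hrv : (r.1 ⟨y, hy⟩).val = (Localization.mk a ⟨b, nin ⟨y, hyW⟩⟩ : Twist.Loc 𝒜 y) := by
    refine (congrArg HomogeneousLocalization.val (hw ⟨y, hyW⟩)).trans ?_
    rw [HomogeneousLocalization.val_mk]
  have hv : val 𝒜 (subGrading 𝒜 F hs1 G) (r • σ) ⟨y, hy⟩ =
      LocalizedModule.mk (a • m.1) (⟨b * t.1, fun h ↦ (y.isPrime.mem_or_mem h).elim (nin ⟨y, hyW⟩) ht⟩ : y.asHomogeneousIdeal.toIdeal.primeCompl) := by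
    rw [val_smul]
    change (r.1 ⟨y, hy⟩).val • (σ.1 ⟨y, hy⟩).1 = _
    rw [hrv, e, LocalizedModule.mk_smul_mk]
    rfl
  rw [hv]
  refine rel_of_eq 𝒜 F hs1 G g hg (⟨a • m.1, smul_mem_subGrading 𝒜 F hs1 G ha m⟩ : subGrading 𝒜 F hs1 G (k + j))
    ⟨_, SetLike.mul_mem_graded hb t.2⟩ _ ?_ hdec
  have hloc : ores (inf_le_right : W ⊓ chartOpen 𝒜 g ≤ chartOpen 𝒜 g) (cfun 𝒜 (hs1 g) k b hb) *
      ores (inf_le_left.trans iW.le : W ⊓ chartOpen 𝒜 g ≤ U) r =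
      ores (inf_le_right : W ⊓ chartOpen 𝒜 g ≤ chartOpen 𝒜 g) (cfun 𝒜 (hs1 g) k a ha) := by
    refine oval_ext 𝒜 fun x ↦ ?_
    rw [oval_mul, oval_ores, oval_ores, oval_ores, oval_cfun, oval_cfun]
    have hx : oval 𝒜 r ⟨x.1, iW.le x.2.1⟩ = Localization.mk a ⟨b, nin ⟨x.1, x.2.1⟩⟩ := by
      refine (congrArg HomogeneousLocalization.val (hw ⟨x.1, x.2.1⟩)).trans ?_
      rw [HomogeneousLocalization.val_mk]
    rw [hx, Localization.mk_mul, Localization.mk_eq_mk_iff, Localization.r_iff_exists]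
    exact ⟨1, by simp; ring⟩
  have hg' := congrArg ((Proj 𝒜).presheaf.germ _ y (⟨hyW, hg⟩ : y ∈ W ⊓ chartOpen 𝒜 g)) hloc
  rw [map_mul] at hg'
  have r1 : ∀ (V : (Proj 𝒜).Opens) (hV : W ⊓ chartOpen 𝒜 g ≤ V) (f : Γ(Proj 𝒜, V)),
      (Proj 𝒜).presheaf.germ _ y (⟨hyW, hg⟩ : y ∈ W ⊓ chartOpen 𝒜 g) (ores hV f) =
        (Proj 𝒜).presheaf.germ V y (hV ⟨hyW, hg⟩) f :=
    fun V hV f ↦ TopCat.Presheaf.germ_res_apply (Proj 𝒜).presheaf (homOfLE hV) y _ f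
  rw [r1, r1, r1] at hg'
  rw [pc_smul 𝒜 F hs1 G ha m, AssPts.germ_smul', AssPts.germ_smul', ← h y hy g hg j m t ht e,
    ← cfun_mul 𝒜 (hs1 g) hb t.2, map_mul, ← hg', smul_smul, smul_smul]
  congr 1
  ring

/-- The image of a section. -/
def imageFun (U : (Proj 𝒜).Opens) (σ : Γ(GrTilde.tilde 𝒜 (subGrading 𝒜 F hs1 G) 0, U)) : Γ(F, U) :=
  (exists_isImage 𝒜 F hs1 G hcov hdec σ).choose

lemma isImage_imageFun (U : (Proj 𝒜).Opens) (σ : Γ(GrTilde.tilde 𝒜 (subGrading 𝒜 F hs1 G) 0, U)) :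
    IsImage 𝒜 F hs1 G σ (imageFun 𝒜 F hs1 G hcov hdec U σ) :=
  (exists_isImage 𝒜 F hs1 G hcov hdec σ).choose_spec

/-- The map `M~ ⟶ F`. -/
def toQCoh : GrTilde.tilde 𝒜 (subGrading 𝒜 F hs1 G) 0 ⟶ F :=
  ⟨PresheafOfModules.homMk
    { app := fun V ↦ AddCommGrpCat.ofHom (AddMonoidHom.mk' (imageFun 𝒜 F hs1 G hcov hdec V.unop) fun σ σ' ↦
        isImage_unique 𝒜 F hs1 G hcov (isImage_imageFun 𝒜 F hs1 G hcov hdec _ _)
          (isImage_add 𝒜 F hs1 G hcov hdec (isImage_imageFun 𝒜 F hs1 G hcov hdec _ σ)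
            (isImage_imageFun 𝒜 F hs1 G hcov hdec _ σ')))
      naturality := fun V W i ↦ by
        ext σ
        refine isImage_unique 𝒜 F hs1 G hcov (isImage_imageFun 𝒜 F hs1 G hcov hdec _ _) (fun y hy ↦ ?_)
        have h := isImage_imageFun 𝒜 F hs1 G hcov hdec V.unop σ y (i.unop.le hy)
        rw [← AssPts.germ_mres F y i.unop.le hy] at h
        exact h }
    fun V r σ ↦ isImage_unique 𝒜 F hs1 G hcov (isImage_imageFun 𝒜 F hs1 G hcov hdec _ _)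
      (isImage_smul 𝒜 F hs1 G hcov hdec (isImage_imageFun 𝒜 F hs1 G hcov hdec _ σ) r)⟩

variable [hF : F.IsQuasicoherent]

include hdec in
/-- An element of the fibre with vanishing image is zero. -/
lemma rel_zero_iff {y : Proj 𝒜} (g : s) (hg : y ∈ chartOpen 𝒜 g) {j : ℕ} (m : subGrading 𝒜 F hs1 G j)
    (hz : F.presheaf.germ _ y hg (pc 𝒜 F hs1 G g m) = 0) : ∃ c : A, c ∉ y.asHomogeneousIdeal ∧ c • m.1 = 0 := by
  classical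
  obtain ⟨r, hr, hr0⟩ := (AssPts.germ_eq_zero_iff F (Proj.isAffineOpen_basicOpen 𝒜 _ (hs1 g) one_pos) y hg _).mp hz
  have hy := (mem_basicOpen_iff_notMem_prime (Proj.isAffineOpen_basicOpen 𝒜 _ (hs1 g) one_pos) y hg r).mpr hr
  obtain ⟨k, a, ha, hk, rfl⟩ := exists_eq_cfun 𝒜 (hs1 g) r
  rw [basicOpen_cfun 𝒜 (hs1 g) hk ha] at hy
  let n : subGrading 𝒜 F hs1 G (k + j) := ⟨a • m.1, smul_mem_subGrading 𝒜 F hs1 G ha m⟩
  have hn : pc 𝒜 F hs1 G g n = 0 := (pc_smul 𝒜 F hs1 G ha m g).trans hr0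
  have hN : ∀ h : s, ∃ N, cfun 𝒜 (hs1 h) N ((g : A) ^ N) (by simpa using SetLike.pow_mem_graded N (hs1 g)) •
      pc 𝒜 F hs1 G h n = 0 := by
    intro h
    have hb : (Proj 𝒜).basicOpen (cfun 𝒜 (hs1 h) 1 (g : A) (hs1 g)) = chartOpen 𝒜 h ⊓ chartOpen 𝒜 g :=
      basicOpen_cfun 𝒜 (hs1 h) one_pos (hs1 g)
    have hres : mres F (inf_le_left : chartOpen 𝒜 h ⊓ chartOpen 𝒜 g ≤ chartOpen 𝒜 h) (pc 𝒜 F hs1 G h n) = 0 := by
      refine (n.2.2 h g _ inf_le_left inf_le_right).trans ?_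
      show _ • mres F _ (pc 𝒜 F hs1 G g n) = 0
      rw [hn, map_zero, smul_zero]
    obtain ⟨N, hN⟩ := QCohBase.exists_pow_smul_eq_zero F (Proj.isAffineOpen_basicOpen 𝒜 _ (hs1 h) one_pos)
      (cfun 𝒜 (hs1 h) 1 (g : A) (hs1 g)) hb.symm inf_le_left _ hres
    refine ⟨N, ?_⟩
    have hpow : ∀ N : ℕ, cfun 𝒜 (hs1 h) N ((g : A) ^ N) (by simpa using SetLike.pow_mem_graded N (hs1 g)) =
        cfun 𝒜 (hs1 h) 1 (g : A) (hs1 g) ^ N := by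
      intro N
      induction N with
      | zero => exact ((cfun_congr 𝒜 (hs1 h) rfl (pow_zero _)).trans (cfun_one 𝒜 (hs1 h))).trans (pow_zero _).symm
      | succ N ih =>
        refine Eq.trans ?_ ((congrArg (· * cfun 𝒜 (hs1 h) 1 (g : A) (hs1 g)) ih).trans (pow_succ _ _).symm)
        rw [cfun_mul]
        exact cfun_congr 𝒜 (hs1 h) rfl (pow_succ _ _)
    rw [hpow]; exact hN
  choose N hN using hN
  obtain ⟨K, hK⟩ : ∃ K, ∀ h, N h ≤ K := ⟨Finset.univ.sup N, fun h ↦ Finset.le_sup (Finset.mem_univ h)⟩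
  refine ⟨(g : A) ^ K * a, fun hm ↦ (y.isPrime.mem_or_mem hm).elim (fun hm ↦ hg (y.isPrime.mem_of_pow_mem K hm)) hy.2, ?_⟩
  rw [mul_smul]
  have hgK : (g : A) ^ K ∈ 𝒜 K := by simpa using SetLike.pow_mem_graded K (hs1 g)
  have hmem := smul_mem_homFam 𝒜 F hs1 n.2 hgK
  refine Subtype.ext (eq_zero_of_piece 𝒜 F hs1 hmem.1 fun h ↦ ?_)
  refine (hmem.2 h).trans ?_
  show _ • pc 𝒜 F hs1 G h n = 0
  have hsplit : cfun 𝒜 (hs1 h) K ((g : A) ^ K) hgK =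
      cfun 𝒜 (hs1 h) (K - N h) ((g : A) ^ (K - N h)) (by simpa using SetLike.pow_mem_graded (K - N h) (hs1 g)) *
        cfun 𝒜 (hs1 h) (N h) ((g : A) ^ N h) (by simpa using SetLike.pow_mem_graded (N h) (hs1 g)) := by
    rw [cfun_mul]
    exact cfun_congr 𝒜 (hs1 h) (Nat.sub_add_cancel (hK h)).symm (by rw [← pow_add, Nat.sub_add_cancel (hK h)])
  rw [hsplit, mul_smul, hN, smul_zero]

variable (hgen : ∀ (g : s) (v : Γ(F, chartOpen 𝒜 g)), ∃ (j : ℕ) (m : subGrading 𝒜 F hs1 G j), pc 𝒜 F hs1 G g m = v)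

include hcov hdec hgen in
lemma exists_rel (y : Proj 𝒜) (z : F.presheaf.stalk y) :
    ∃ q : GrTilde.tildeAt 𝒜 (subGrading 𝒜 F hs1 G) 0 y, IsRel 𝒜 F hs1 G y q.1 z := by
  obtain ⟨g, hg⟩ := hcov y
  have hD := Proj.isAffineOpen_basicOpen 𝒜 (g : A) (hs1 g) one_pos
  obtain ⟨r, v, hr, hv⟩ := AssPts.exists_germ_smul_eq F hD y hg z
  have hy := (mem_basicOpen_iff_notMem_prime hD y hg r).mpr hr
  obtain ⟨k, a, ha, hk, rfl⟩ := exists_eq_cfun 𝒜 (hs1 g) r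
  rw [basicOpen_cfun 𝒜 (hs1 g) hk ha] at hy
  obtain ⟨j, m, hm⟩ := hgen g v
  have hgk : (g : A) ^ k ∈ 𝒜 k := by simpa using SetLike.pow_mem_graded k (hs1 g)
  have hgj : (g : A) ^ j ∈ 𝒜 j := by simpa using SetLike.pow_mem_graded j (hs1 g)
  let n : subGrading 𝒜 F hs1 G (k + j) := ⟨(g : A) ^ k • m.1, smul_mem_subGrading 𝒜 F hs1 G hgk m⟩
  have ht : a * (g : A) ^ j ∉ y.asHomogeneousIdeal := fun hm ↦
    (y.isPrime.mem_or_mem hm).elim hy.2 fun hm ↦ hg (y.isPrime.mem_of_pow_mem j hm)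
  refine ⟨⟨LocalizedModule.mk n.1 ⟨_, ht⟩, Submodule.subset_span
    ⟨_, _, n, ⟨_, SetLike.mul_mem_graded ha hgj⟩, ht, by simp, rfl⟩⟩, ?_⟩
  refine rel_of_eq 𝒜 F hs1 G g hg n ⟨_, SetLike.mul_mem_graded ha hgj⟩ ht ?_ hdec
  rw [pc_smul 𝒜 F hs1 G hgk m, hm, cfun_pow_self, one_smul, ← cfun_mul 𝒜 (hs1 g) ha hgj, cfun_pow_self, mul_one]
  exact hv

include hgen in
theorem isIso_toQCoh : IsIso (toQCoh 𝒜 F hs1 G hcov hdec) := by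
  rw [Scheme.Modules.Hom.isIso_iff_isIso_app]
  intro U
  rw [ConcreteCategory.isIso_iff_bijective]
  refine ⟨fun σ σ' h ↦ ?_, fun τ ↦ ?_⟩
  · have h' : imageFun 𝒜 F hs1 G hcov hdec U σ = imageFun 𝒜 F hs1 G hcov hdec U σ' := h
    refine sect_ext 𝒜 _ fun y ↦ ?_
    letI : DirectSum.Decomposition (subGrading 𝒜 F hs1 G) := hdec.chooseDecomposition
    obtain ⟨j, m, t, ht, e⟩ := exists_rep 𝒜 F hs1 G y.1 (σ.1 y)
    obtain ⟨j', m', t', ht', e'⟩ := exists_rep 𝒜 F hs1 G y.1 (σ'.1 y)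
    obtain ⟨g, hg⟩ := hcov y.1
    have h1 := isImage_imageFun 𝒜 F hs1 G hcov hdec U σ y.1 y.2 g hg j m t ht e
    have h2 := isImage_imageFun 𝒜 F hs1 G hcov hdec U σ' y.1 y.2 g hg j' m' t' ht' e'
    rw [← h'] at h2
    let a : subGrading 𝒜 F hs1 G (j' + j) := ⟨t'.1 • m.1, smul_mem_subGrading 𝒜 F hs1 G t'.2 m⟩
    let b : subGrading 𝒜 F hs1 G (j' + j) := ⟨t.1 • m'.1, (add_comm j j') ▸ smul_mem_subGrading 𝒜 F hs1 G t.2 m'⟩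
    have hz : F.presheaf.germ _ y.1 hg (pc 𝒜 F hs1 G g (a - b)) = 0 := by
      have hb : pc 𝒜 F hs1 G g b = cfun 𝒜 (hs1 g) j t.1 t.2 • pc 𝒜 F hs1 G g m' :=
        (pc_congr 𝒜 F hs1 G (add_comm j' j) rfl g).trans (pc_smul 𝒜 F hs1 G t.2 m' g)
      have hsub : pc 𝒜 F hs1 G g (a - b) = pc 𝒜 F hs1 G g a - pc 𝒜 F hs1 G g b := map_sub _ _ _
      rw [hsub, hb, pc_smul 𝒜 F hs1 G t'.2 m, map_sub, AssPts.germ_smul', AssPts.germ_smul', ← h1, ← h2,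
        smul_comm, sub_self]
    obtain ⟨c, hc, hc0⟩ := rel_zero_iff 𝒜 F hs1 G hdec g hg (a - b) hz
    change (σ.1 y).1 = (σ'.1 y).1
    rw [e, e', LocalizedModule.mk_eq]
    refine ⟨⟨c, hc⟩, ?_⟩
    simp only [Submonoid.smul_def]
    rw [← sub_eq_zero, ← smul_sub]
    exact hc0
  · choose q hq using fun y : U ↦ exists_rel 𝒜 F hs1 G hcov hdec hgen y.1 (F.presheaf.germ U y.1 y.2 τ)
    have hloc : ∀ y : U, ∃ (W : (Proj 𝒜).Opens) (_ : y.1 ∈ W) (iW : W ⟶ U) (i j : ℕ) (m : subGrading 𝒜 F hs1 G i)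
        (t : 𝒜 j) (nin : ∀ z : W, t.1 ∉ z.1.asHomogeneousIdeal), ((i : ℤ) = j + 0 ∨ m.1 = 0) ∧
          ∀ z : W, (q (iW z)).1 = LocalizedModule.mk m.1 ⟨t.1, nin z⟩ := by
      intro y
      obtain ⟨j, m, t, ht, e⟩ := exists_rep 𝒜 F hs1 G y.1 (q y)
      obtain ⟨g, hg⟩ := hcov y.1
      have hy := hq y g hg j m t ht e
      let V : (Proj 𝒜).Opens := U ⊓ chartOpen 𝒜 g
      have hVg : V ≤ chartOpen 𝒜 g := inf_le_right
      have hgerm : F.presheaf.germ V y.1 ⟨y.2, hg⟩ (ores hVg (cfun 𝒜 (hs1 g) j t.1 t.2) • mres F inf_le_left τ) =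
          F.presheaf.germ V y.1 ⟨y.2, hg⟩ (mres F hVg (pc 𝒜 F hs1 G g m)) := by
        rw [AssPts.germ_smul', AssPts.germ_mres, AssPts.germ_mres]
        refine Eq.trans ?_ hy
        congr 1
        exact TopCat.Presheaf.germ_res_apply (Proj 𝒜).presheaf (homOfLE hVg) y.1 _ _
      obtain ⟨W, hyW, i₁, i₂, hW⟩ := TopCat.Presheaf.germ_eq F.presheaf y.1 _ _ _ _ hgerm
      let W' : (Proj 𝒜).Opens := W ⊓ Proj.basicOpen 𝒜 t.1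
      refine ⟨W', ⟨hyW, ht⟩, homOfLE (inf_le_left.trans (i₁.le.trans inf_le_left)), j, j, m, t, fun z ↦ z.2.2,
        Or.inl (by simp), fun z ↦ ?_⟩
      have hzg : z.1 ∈ chartOpen 𝒜 g := hVg (i₁.le z.2.1)
      have hW' := congrArg (F.presheaf.germ W z.1 z.2.1) hW
      change F.presheaf.germ W z.1 z.2.1 (mres F i₁.le _) = F.presheaf.germ W z.1 z.2.1 (mres F i₂.le _) at hW'
      rw [AssPts.germ_mres, AssPts.germ_mres, AssPts.germ_smul', AssPts.germ_mres, AssPts.germ_mres,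
        show (Proj 𝒜).presheaf.germ V z.1 (i₁.le z.2.1) (ores hVg (cfun 𝒜 (hs1 g) j t.1 t.2)) =
          (Proj 𝒜).presheaf.germ _ z.1 hzg (cfun 𝒜 (hs1 g) j t.1 t.2) from
        TopCat.Presheaf.germ_res_apply (Proj 𝒜).presheaf (homOfLE hVg) z.1 _ _] at hW'
      -- injectivity at `z`
      let y' : U := ⟨z.1, (i₁.le z.2.1).1⟩
      letI : DirectSum.Decomposition (subGrading 𝒜 F hs1 G) := hdec.chooseDecomposition
      obtain ⟨j', m', t', ht', e'⟩ := exists_rep 𝒜 F hs1 G z.1 (q y')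
      have h2 := hq y' g hzg j' m' t' ht' e'
      let a : subGrading 𝒜 F hs1 G (j' + j) := ⟨t'.1 • m.1, smul_mem_subGrading 𝒜 F hs1 G t'.2 m⟩
      let b : subGrading 𝒜 F hs1 G (j' + j) := ⟨t.1 • m'.1, (add_comm j j') ▸ smul_mem_subGrading 𝒜 F hs1 G t.2 m'⟩
      have hz : F.presheaf.germ _ z.1 hzg (pc 𝒜 F hs1 G g (a - b)) = 0 := by
        have hb : pc 𝒜 F hs1 G g b = cfun 𝒜 (hs1 g) j t.1 t.2 • pc 𝒜 F hs1 G g m' :=
          (pc_congr 𝒜 F hs1 G (add_comm j' j) rfl g).trans (pc_smul 𝒜 F hs1 G t.2 m' g)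
        have hsub : pc 𝒜 F hs1 G g (a - b) = pc 𝒜 F hs1 G g a - pc 𝒜 F hs1 G g b := map_sub _ _ _
        rw [hsub, hb, pc_smul 𝒜 F hs1 G t'.2 m, map_sub, AssPts.germ_smul', AssPts.germ_smul', ← h2, ← hW',
          smul_comm, sub_self]
      obtain ⟨c, hc, hc0⟩ := rel_zero_iff 𝒜 F hs1 G hdec g hzg (a - b) hz
      refine e'.trans (LocalizedModule.mk_eq.mpr ⟨⟨c, hc⟩, ?_⟩)
      simp only [Submonoid.smul_def]
      refine (sub_eq_zero.mp ?_).symm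
      rw [← smul_sub]
      exact hc0
    exact ⟨⟨fun y ↦ q y, hloc⟩,
      isImage_unique 𝒜 F hs1 G hcov (isImage_imageFun 𝒜 F hs1 G hcov hdec U _) fun y hy ↦ hq ⟨y, hy⟩⟩

end Groth.Agent.GrTildeLib
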