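import Groth.Agent.GrTildeLib.OfQCoh

/-! Every quasi-coherent module on Proj of an algebra with finitely many degree one generators is `M~`. -/

set_option autoImplicit false
set_option backward.isDefEq.respectTransparency false
set_option backward.isDefEq.respectTransparency.types false
set_option linter.unusedSectionVars false
set_option linter.style.haveILetI false

noncomputable section

universe u

open CategoryTheory AlgebraicGeometry Opposite TopologicalSpace HomogeneousLocalization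
open Groth.Agent.QCohBase DirectSum

namespace Groth.Agent.GrTildeLib

variable {R A : Type u} [CommRing R] [CommRing A] [Algebra R A] (𝒜 : ℕ → Submodule R A) [GradedAlgebra 𝒜]
variable (F : (Proj 𝒜).Modules) {s : Finset A} (hs1 : ∀ g : s, (g : A) ∈ 𝒜 1)

lemma cfun_pow {g h : A} (hg : g ∈ 𝒜 1) (hh : h ∈ 𝒜 1) (N : ℕ) :
    cfun 𝒜 hg N (h ^ N) (by simpa using SetLike.pow_mem_graded N hh) = cfun 𝒜 hg 1 h hh ^ N := by
  induction N with
  | zero => exact ((cfun_congr 𝒜 hg rfl (pow_zero _)).trans (cfun_one 𝒜 hg)).trans (pow_zero _).symm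
  | succ N ih =>
    refine Eq.trans ?_ ((congrArg (· * cfun 𝒜 hg 1 h hh) ih).trans (pow_succ _ _).symm)
    rw [cfun_mul]
    exact cfun_congr 𝒜 hg rfl (pow_succ _ _)

/-- Sections on a chart extend to compatible families, up to the degree. -/
theorem exists_lift [F.IsQuasicoherent] (g : s) (v : Γ(F, chartOpen 𝒜 g)) :
    ∃ (n : ℕ) (x : Fam 𝒜 F hs1), x ∈ homFam 𝒜 F hs1 n ∧ piece 𝒜 F hs1 n g x = v := by
  classical
  have haff : ∀ h : s, IsAffineOpen (chartOpen 𝒜 h) := fun h ↦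
    Proj.isAffineOpen_basicOpen 𝒜 _ (hs1 h) one_pos
  let c : ∀ a b : s, Γ(Proj 𝒜, chartOpen 𝒜 a) := fun a b ↦ cfun 𝒜 (hs1 a) 1 (b : A) (hs1 b)
  have hbo : ∀ a b : s, (Proj 𝒜).basicOpen (c a b) = chartOpen 𝒜 a ⊓ chartOpen 𝒜 b := fun a b ↦
    basicOpen_cfun 𝒜 (hs1 a) one_pos (hs1 b)
  have hext : ∀ h : s, ∀ᶠ N in Filter.atTop, ∃ y : Γ(F, chartOpen 𝒜 h),
      mres F (inf_le_left : chartOpen 𝒜 h ⊓ chartOpen 𝒜 g ≤ _) y =
        ores (inf_le_left : chartOpen 𝒜 h ⊓ chartOpen 𝒜 g ≤ _) (c h g) ^ N • mres F (inf_le_right : chartOpen 𝒜 h ⊓ chartOpen 𝒜 g ≤ _) v := by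
    intro h
    obtain ⟨N, y, hy⟩ := exists_pow_smul_eq_mres F (haff h) (c h g) (hbo h g).symm inf_le_left
      (mres F (inf_le_right : chartOpen 𝒜 h ⊓ chartOpen 𝒜 g ≤ _) v)
    refine Filter.eventually_atTop.2 ⟨N, fun N' hN' ↦ ⟨c h g ^ (N' - N) • y, ?_⟩⟩
    rw [mres_smul, hy, map_pow, smul_smul, ← pow_add, Nat.sub_add_cancel hN']
  obtain ⟨N, hN⟩ := (Filter.eventually_all.2 hext).exists
  choose y hy using hN
  -- the defect of compatibility
  have hy' : ∀ (a : s) (W : (Proj 𝒜).Opens) (ha : W ≤ chartOpen 𝒜 a) (hg : W ≤ chartOpen 𝒜 g),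
      mres F ha (y a) = ores ha (c a g) ^ N • mres F hg v := by
    intro a W ha hg
    have := congrArg (mres F (le_inf ha hg)) (hy a)
    rwa [mres_mres, mres_smul, map_pow, ores_ores, mres_mres] at this
  let d : ∀ a b : s, Γ(F, chartOpen 𝒜 a ⊓ chartOpen 𝒜 b) := fun a b ↦
    mres F (inf_le_left : chartOpen 𝒜 a ⊓ chartOpen 𝒜 b ≤ _) (y a) -
      ores (inf_le_left : chartOpen 𝒜 a ⊓ chartOpen 𝒜 b ≤ _) (c a b) ^ N •
        mres F (inf_le_right : chartOpen 𝒜 a ⊓ chartOpen 𝒜 b ≤ _) (y b)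
  have hd : ∀ (a b : s) (W : (Proj 𝒜).Opens) (ha : W ≤ chartOpen 𝒜 a) (hb : W ≤ chartOpen 𝒜 b),
      mres F (le_inf ha hb) (d a b) = mres F ha (y a) - ores ha (c a b) ^ N • mres F hb (y b) := by
    intro a b W ha hb
    simp only [d, map_sub, mres_smul, mres_mres, map_pow, ores_ores]
  have hkill : ∀ p : s × s, ∀ᶠ K in Filter.atTop,
      ores (inf_le_left : chartOpen 𝒜 p.1 ⊓ chartOpen 𝒜 p.2 ≤ _) (c p.1 g) ^ K • d p.1 p.2 = 0 := by
    rintro ⟨a, b⟩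
    let V : (Proj 𝒜).Opens := chartOpen 𝒜 a ⊓ chartOpen 𝒜 b
    have hV : IsAffineOpen V := by
      have := Proj.isAffineOpen_basicOpen 𝒜 ((a : A) * (b : A)) (SetLike.mul_mem_graded (hs1 a) (hs1 b))
        (Nat.succ_pos _)
      rwa [Proj.basicOpen_mul] at this
    have hW : V ⊓ chartOpen 𝒜 g = (Proj 𝒜).basicOpen (ores (inf_le_left : V ≤ _) (c a g)) := by
      rw [show (Proj 𝒜).basicOpen (ores (inf_le_left : V ≤ chartOpen 𝒜 a) (c a g)) =
        V ⊓ (Proj 𝒜).basicOpen (c a g) from (Proj 𝒜).basicOpen_res _ _, hbo]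
      exact le_antisymm (le_inf inf_le_left (le_inf (inf_le_left.trans inf_le_left) inf_le_right))
        (le_inf inf_le_left (inf_le_right.trans inf_le_right))
    have hres : mres F (inf_le_left : V ⊓ chartOpen 𝒜 g ≤ V) (d a b) = 0 := by
      refine (hd a b _ (inf_le_left.trans inf_le_left) (inf_le_left.trans inf_le_right)).trans ?_
      rw [hy' a _ (inf_le_left.trans inf_le_left) inf_le_right, hy' b _ (inf_le_left.trans inf_le_right) inf_le_right,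
        smul_smul, ← mul_pow, sub_eq_zero]
      congr 2
      exact cfun_change 𝒜 (hs1 a) (hs1 b) (hs1 g) _ _ |>.trans (congrArg (· * _) (congrArg _
        (cfun_congr 𝒜 (hs1 a) rfl (pow_one _))))
    obtain ⟨K, hK⟩ := QCohBase.exists_pow_smul_eq_zero F hV _ hW inf_le_left _ hres
    refine Filter.eventually_atTop.2 ⟨K, fun K' hK' ↦ ?_⟩
    rw [← Nat.sub_add_cancel hK', pow_add, mul_smul, hK, smul_zero]
  obtain ⟨K, hK⟩ := (Filter.eventually_all.2 hkill).exists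
  let w : ∀ a : s, Γ(F, chartOpen 𝒜 a) := fun a ↦ c a g ^ K • y a
  have hcompat : Compat 𝒜 F hs1 (K + N) w := by
    intro a b W ha hb
    have h0 := congrArg (mres F (le_inf ha hb)) (hK (a, b))
    simp only [mres_smul, map_pow, ores_ores, map_zero, hd a b W ha hb, smul_sub, sub_eq_zero] at h0
    have h1 : ores ha (cfun 𝒜 (hs1 a) (K + N) ((b : A) ^ (K + N))
        (by simpa using SetLike.pow_mem_graded (K + N) (hs1 b))) = ores ha (c a b) ^ (K + N) := by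
      rw [cfun_pow 𝒜 (hs1 a) (hs1 b), map_pow]
    have h2 : ores ha (c a g) = ores ha (c a b) * ores hb (c b g) :=
      (cfun_change 𝒜 (hs1 a) (hs1 b) (hs1 g) ha hb).trans (congrArg (· * _) (congrArg _
        (cfun_congr 𝒜 (hs1 a) rfl (pow_one _))))
    rw [h1, mres_smul, mres_smul, map_pow, map_pow, h0, h2, smul_smul, smul_smul, pow_add, mul_pow]
    congr 1
    ring
  refine ⟨K + N, _, mem_homFam_of_compat 𝒜 F hs1 hcompat, ?_⟩
  rw [piece_mono, if_pos rfl]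
  have hself : c g g = 1 := (cfun_congr 𝒜 (hs1 g) rfl (pow_one _).symm).trans (cfun_pow_self 𝒜 (hs1 g) 1)
  have hyg := hy' g (chartOpen 𝒜 g) le_rfl le_rfl
  rw [mres_refl, mres_refl, hself, map_one, one_pow, one_smul] at hyg
  show c g g ^ K • y g = v
  rw [hself, one_pow, one_smul, hyg]

variable (G : Set (Fam 𝒜 F hs1))

/-- Finitely many elements hitting generators give all sections. -/
theorem exists_pc_eq (g : s) (hspan : Submodule.span Γ(Proj 𝒜, chartOpen 𝒜 g)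
      {v | ∃ x ∈ G, ∃ n, x ∈ homFam 𝒜 F hs1 n ∧ piece 𝒜 F hs1 n g x = v} = ⊤)
    (v : Γ(F, chartOpen 𝒜 g)) : ∃ (j : ℕ) (m : subGrading 𝒜 F hs1 G j), pc 𝒜 F hs1 G g m = v := by
  have hv : v ∈ Submodule.span Γ(Proj 𝒜, chartOpen 𝒜 g)
      {v | ∃ x ∈ G, ∃ n, x ∈ homFam 𝒜 F hs1 n ∧ piece 𝒜 F hs1 n g x = v} := hspan ▸ trivial
  induction hv using Submodule.span_induction with
  | mem v hv =>
    obtain ⟨x, hx, n, hn, rfl⟩ := hv
    exact ⟨n, ⟨⟨x, Submodule.subset_span hx⟩, hn⟩, rfl⟩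
  | zero => exact ⟨0, 0, pc_zero 𝒜 F hs1 G 0 g⟩
  | add v v' _ _ hv hv' =>
    obtain ⟨j, m, rfl⟩ := hv
    obtain ⟨j', m', rfl⟩ := hv'
    have hj : (g : A) ^ j ∈ 𝒜 j := by simpa using SetLike.pow_mem_graded j (hs1 g)
    have hj' : (g : A) ^ j' ∈ 𝒜 j' := by simpa using SetLike.pow_mem_graded j' (hs1 g)
    let b : subGrading 𝒜 F hs1 G (j' + j) :=
      ⟨(g : A) ^ j • m'.1, (add_comm j j') ▸ smul_mem_subGrading 𝒜 F hs1 G hj m'⟩
    refine ⟨j' + j, ⟨(g : A) ^ j' • m.1, smul_mem_subGrading 𝒜 F hs1 G hj' m⟩ + b, ?_⟩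
    rw [pc_add, pc_smul 𝒜 F hs1 G hj' m, cfun_pow_self, one_smul]
    congr 1
    rw [pc_congr 𝒜 F hs1 G (add_comm j' j) (m' := ⟨(g : A) ^ j • m'.1, smul_mem_subGrading 𝒜 F hs1 G hj m'⟩) rfl,
      pc_smul 𝒜 F hs1 G hj m', cfun_pow_self, one_smul]
  | smul r v _ hv =>
    obtain ⟨j, m, rfl⟩ := hv
    obtain ⟨k, a, ha, -, rfl⟩ := exists_eq_cfun 𝒜 (hs1 g) r
    exact ⟨k + j, ⟨a • m.1, smul_mem_subGrading 𝒜 F hs1 G ha m⟩, pc_smul 𝒜 F hs1 G ha m g⟩

theorem exists_iso_tilde_of (hcov : ∀ y : ProjectiveSpectrum 𝒜, ∃ g : s, (g : A) ∉ y.asHomogeneousIdeal)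
    [F.IsQuasicoherent] (hG : ∀ x ∈ G, ∃ n, x ∈ homFam 𝒜 F hs1 n)
    (hspan : ∀ g : s, Submodule.span Γ(Proj 𝒜, chartOpen 𝒜 g)
      {v | ∃ x ∈ G, ∃ n, x ∈ homFam 𝒜 F hs1 n ∧ piece 𝒜 F hs1 n g x = v} = ⊤) :
    ∃ (_ : DirectSum.Decomposition (subGrading 𝒜 F hs1 G)),
      Nonempty (GrTilde.tilde 𝒜 (subGrading 𝒜 F hs1 G) 0 ≅ F) := by
  have hdec := isInternal_subGrading 𝒜 F hs1 G hG
  haveI := isIso_toQCoh 𝒜 F hs1 G hcov hdec fun g v ↦ exists_pc_eq 𝒜 F hs1 G g (hspan g) v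
  exact ⟨hdec.chooseDecomposition, ⟨asIso (toQCoh 𝒜 F hs1 G hcov hdec)⟩⟩

theorem exists_iso_tilde (hs : (HomogeneousIdeal.irrelevant 𝒜).toIdeal = Ideal.span (s : Set A))
    (hs1 : ∀ g : s, (g : A) ∈ 𝒜 1) [F.IsQuasicoherent] :
    ∃ (M : Type u) (_ : AddCommGroup M) (_ : Module R M) (_ : Module A M) (_ : IsScalarTower R A M)
      (ℳ : ℕ → Submodule R M) (_ : DirectSum.Decomposition ℳ) (_ : SetLike.GradedSMul 𝒜 ℳ),
      Nonempty (GrTilde.tilde 𝒜 ℳ 0 ≅ F) := by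
  obtain ⟨d, he⟩ := exists_iso_tilde_of 𝒜 F hs1 {x | ∃ n, x ∈ homFam 𝒜 F hs1 n}
    (fun y ↦ by
      by_contra hne
      push Not at hne
      refine y.not_irrelevant_le ?_
      intro b hb
      exact (Ideal.span_le.mpr fun g hg ↦ hne ⟨g, hg⟩) (hs.le hb))
    (fun x hx ↦ hx) fun g ↦ eq_top_iff.mpr fun v _ ↦ by
      obtain ⟨n, x, hx, rfl⟩ := exists_lift 𝒜 F hs1 g v
      exact Submodule.subset_span ⟨x, ⟨n, hx⟩, n, hx, rfl⟩
  exact ⟨_, inferInstance, inferInstance, inferInstance, inferInstance, _, d, inferInstance, he⟩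

theorem exists_iso_tilde_finite (hs : (HomogeneousIdeal.irrelevant 𝒜).toIdeal = Ideal.span (s : Set A))
    (hs1 : ∀ g : s, (g : A) ∈ 𝒜 1) [F.IsQuasicoherent] (hFT : CohB1.IsFT F) :
    ∃ (N : Type u) (_ : AddCommGroup N) (_ : Module R N) (_ : Module A N) (_ : IsScalarTower R A N)
      (𝒩 : ℕ → Submodule R N) (_ : DirectSum.Decomposition 𝒩) (_ : SetLike.GradedSMul 𝒜 𝒩),
      Module.Finite A N ∧ Nonempty (GrTilde.tilde 𝒜 𝒩 0 ≅ F) := by
  classical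
  choose S hS using fun g : s ↦
    (finite_sections F hFT (Proj.isAffineOpen_basicOpen 𝒜 (g : A) (hs1 g) one_pos)).fg_top
  choose n x hx hxv using fun p : Σ g : s, S g ↦ exists_lift 𝒜 F hs1 p.1 p.2.1
  obtain ⟨d, he⟩ := exists_iso_tilde_of 𝒜 F hs1 (Set.range x)
    (fun y ↦ by
      by_contra hne
      push Not at hne
      refine y.not_irrelevant_le ?_
      intro b hb
      exact (Ideal.span_le.mpr fun g hg ↦ hne ⟨g, hg⟩) (hs.le hb))
    (fun z hz ↦ by obtain ⟨p, rfl⟩ := hz; exact ⟨_, hx p⟩) fun g ↦ eq_top_iff.mpr ((hS g).ge.trans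
      (Submodule.span_mono fun v hv ↦ ⟨_, ⟨⟨g, v, hv⟩, rfl⟩, _, hx ⟨g, v, hv⟩, hxv ⟨g, v, hv⟩⟩))
  exact ⟨_, inferInstance, inferInstance, inferInstance, inferInstance, _, d, inferInstance,
    Module.Finite.span_of_finite A (Set.finite_range x), he⟩

end Groth.Agent.GrTildeLib
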