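import Groth.Agent.GrTildeLib.DegOneFun
import Mathlib.Algebra.Polynomial.Module.Basic

/-! The graded module of compatible families of sections on the standard charts. -/

set_option autoImplicit false
set_option backward.isDefEq.respectTransparency false
set_option backward.isDefEq.respectTransparency.types false
set_option linter.unusedSectionVars false

noncomputable section

universe u

open CategoryTheory AlgebraicGeometry Opposite TopologicalSpace HomogeneousLocalization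
open Groth.Agent.QCohBase Polynomial DirectSum

namespace Groth.Agent.GrTildeLib

variable {R A : Type u} [CommRing R] [CommRing A] [Algebra R A] (𝒜 : ℕ → Submodule R A) [GradedAlgebra 𝒜]
variable (F : (Proj 𝒜).Modules) {s : Finset A} (hs1 : ∀ g : s, (g : A) ∈ 𝒜 1)

/-- The chart `D₊(g)`. -/
abbrev chartOpen (g : s) : (Proj 𝒜).Opens := Proj.basicOpen 𝒜 (g : A)

/-- `a ↦ ∑ (a_i / g ^ i) X ^ i`. -/
def phi (g : s) : A →+* Γ(Proj 𝒜, chartOpen 𝒜 g)[X] :=
  (DirectSum.toSemiring (A := fun i ↦ 𝒜 i)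
    (fun i ↦ AddMonoidHom.mk' (fun a : 𝒜 i ↦ monomial i (cfun 𝒜 (hs1 g) i a.1 a.2)) fun a b ↦ by
      rw [← map_add, ← cfun_add]
      rfl)
    (by
      show monomial 0 (cfun 𝒜 (hs1 g) 0 1 _) = 1
      rw [cfun_one, monomial_zero_one])
    (fun {i j} a b ↦ by
      show monomial (i + j) (cfun 𝒜 (hs1 g) (i + j) (a.1 * b.1) _) =
        monomial i (cfun 𝒜 (hs1 g) i a.1 a.2) * monomial j (cfun 𝒜 (hs1 g) j b.1 b.2)
      rw [monomial_mul_monomial, cfun_mul])).comp (DirectSum.decomposeRingEquiv 𝒜).toRingHom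

lemma phi_homogeneous (g : s) {i : ℕ} {a : A} (ha : a ∈ 𝒜 i) :
    phi 𝒜 hs1 g a = monomial i (cfun 𝒜 (hs1 g) i a ha) := by
  have h : (DirectSum.decomposeRingEquiv 𝒜).toRingHom a = DirectSum.of (fun i ↦ 𝒜 i) i ⟨a, ha⟩ :=
    DirectSum.decompose_of_mem 𝒜 ha
  rw [phi, RingHom.comp_apply, h, DirectSum.toSemiring_of]
  rfl

/-- One component. -/
def Comp (_hs1 : ∀ g : s, (g : A) ∈ 𝒜 1) (g : s) : Type u :=
  PolynomialModule Γ(Proj 𝒜, chartOpen 𝒜 g) Γ(F, chartOpen 𝒜 g)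

instance (g : s) : AddCommGroup (Comp 𝒜 F hs1 g) :=
  inferInstanceAs (AddCommGroup (PolynomialModule Γ(Proj 𝒜, chartOpen 𝒜 g) Γ(F, chartOpen 𝒜 g)))

instance (g : s) : Module Γ(Proj 𝒜, chartOpen 𝒜 g)[X] (Comp 𝒜 F hs1 g) :=
  inferInstanceAs (Module Γ(Proj 𝒜, chartOpen 𝒜 g)[X]
    (PolynomialModule Γ(Proj 𝒜, chartOpen 𝒜 g) Γ(F, chartOpen 𝒜 g)))

instance (g : s) : Module A (Comp 𝒜 F hs1 g) := Module.compHom _ (phi 𝒜 hs1 g)

instance (g : s) : Module R (Comp 𝒜 F hs1 g) := Module.compHom _ (algebraMap R A)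

instance (g : s) : IsScalarTower R A (Comp 𝒜 F hs1 g) := IsScalarTower.of_algebraMap_smul fun _ _ ↦ rfl

/-- All components. -/
abbrev Fam : Type u := ∀ g : s, Comp 𝒜 F hs1 g

/-- A monomial in a component. -/
def mono (n : ℕ) {g : s} (v : Γ(F, chartOpen 𝒜 g)) : Comp 𝒜 F hs1 g :=
  PolynomialModule.single Γ(Proj 𝒜, chartOpen 𝒜 g) n v

/-- The coefficient in degree `n`. -/
def piece (n : ℕ) (g : s) : Fam 𝒜 F hs1 →+ Γ(F, chartOpen 𝒜 g) where
  toFun x := (x g : PolynomialModule Γ(Proj 𝒜, chartOpen 𝒜 g) Γ(F, chartOpen 𝒜 g)).coeff n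
  map_zero' := rfl
  map_add' _ _ := rfl

lemma piece_mono (n m : ℕ) (v : ∀ g : s, Γ(F, chartOpen 𝒜 g)) (g : s) :
    piece 𝒜 F hs1 m g (fun h ↦ mono 𝒜 F hs1 n (v h)) = if n = m then v g else 0 :=
  Finsupp.single_apply

lemma smul_mono (n : ℕ) {g : s} (v : Γ(F, chartOpen 𝒜 g)) {i : ℕ} {a : A} (ha : a ∈ 𝒜 i) :
    a • mono 𝒜 F hs1 n v = mono 𝒜 F hs1 (i + n) (cfun 𝒜 (hs1 g) i a ha • v) := by
  show phi 𝒜 hs1 g a • mono 𝒜 F hs1 n v = _
  rw [phi_homogeneous 𝒜 hs1 g ha]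
  exact PolynomialModule.monomial_smul_single _ _ _ _

lemma mono_add (n : ℕ) {g : s} (v w : Γ(F, chartOpen 𝒜 g)) :
    mono 𝒜 F hs1 n (v + w) = mono 𝒜 F hs1 n v + mono 𝒜 F hs1 n w := PolynomialModule.single_add _ _ _

lemma mono_zero (n : ℕ) (g : s) : mono 𝒜 F hs1 n (0 : Γ(F, chartOpen 𝒜 g)) = 0 := PolynomialModule.single_zero _

/-- Compatible families of degree `n`. -/
def Compat (n : ℕ) (v : ∀ g : s, Γ(F, chartOpen 𝒜 g)) : Prop :=
  ∀ (g h : s) (W : (Proj 𝒜).Opens) (hg : W ≤ chartOpen 𝒜 g) (hh : W ≤ chartOpen 𝒜 h),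
    mres F hg (v g) =
      ores hg (cfun 𝒜 (hs1 g) n ((h : A) ^ n) (by simpa using SetLike.pow_mem_graded n (hs1 h))) • mres F hh (v h)

/-- Homogeneous elements. -/
def homFam (n : ℕ) : Submodule R (Fam 𝒜 F hs1) where
  carrier := {x | (∀ g, x g = mono 𝒜 F hs1 n (piece 𝒜 F hs1 n g x)) ∧ Compat 𝒜 F hs1 n fun g ↦ piece 𝒜 F hs1 n g x}
  zero_mem' := ⟨fun g ↦ by rw [map_zero, mono_zero]; rfl, fun g h W hg hh ↦ by simp⟩
  add_mem' := by
    rintro x y ⟨hx, hx'⟩ ⟨hy, hy'⟩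
    refine ⟨fun g ↦ by rw [map_add, mono_add, ← hx, ← hy]; rfl, fun g h W hg hh ↦ ?_⟩
    dsimp only
    rw [map_add, map_add, map_add, map_add, smul_add, hx' g h W hg hh, hy' g h W hg hh]
  smul_mem' := by
    rintro r x ⟨hx, hx'⟩
    have ha : algebraMap R A r ∈ 𝒜 0 := (algebraMap R (𝒜 0) r).2
    have hval : ∀ g, (r • x) g = mono 𝒜 F hs1 n (cfun 𝒜 (hs1 g) 0 (algebraMap R A r) ha • piece 𝒜 F hs1 n g x) := by
      intro g
      show algebraMap R A r • x g = _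
      conv_lhs => rw [hx g]
      rw [smul_mono 𝒜 F hs1 n _ ha, zero_add]
    have hpiece : ∀ g, piece 𝒜 F hs1 n g (r • x) = cfun 𝒜 (hs1 g) 0 (algebraMap R A r) ha • piece 𝒜 F hs1 n g x := by
      intro g
      rw [show r • x = fun g ↦ mono 𝒜 F hs1 n (cfun 𝒜 (hs1 g) 0 (algebraMap R A r) ha • piece 𝒜 F hs1 n g x) from
        funext hval, piece_mono, if_pos rfl]
    refine ⟨fun g ↦ by rw [hpiece, hval], fun g h W hg hh ↦ ?_⟩
    dsimp only
    rw [hpiece, hpiece, mres_smul, mres_smul, hx' g h W hg hh, smul_smul, smul_smul,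
      cfun_change 𝒜 (hs1 g) (hs1 h) ha hg hh, cfun_congr 𝒜 (hs1 g) rfl (pow_zero (h : A)) (ha' := SetLike.GradedOne.one_mem),
      cfun_one, map_one, one_mul, mul_comm]

lemma piece_of_mem {n m : ℕ} {x : Fam 𝒜 F hs1} (hx : x ∈ homFam 𝒜 F hs1 n) (g : s) (h : n ≠ m) :
    piece 𝒜 F hs1 m g x = 0 := by
  have := piece_mono 𝒜 F hs1 n m (fun g ↦ piece 𝒜 F hs1 n g x) g
  rwa [← funext hx.1, if_neg h] at this

lemma eq_zero_of_piece {n : ℕ} {x : Fam 𝒜 F hs1} (hx : x ∈ homFam 𝒜 F hs1 n)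
    (h : ∀ g, piece 𝒜 F hs1 n g x = 0) : x = 0 :=
  funext fun g ↦ by rw [hx.1 g, h g, mono_zero]; rfl

lemma mem_homFam_of_compat {n : ℕ} {v : ∀ g : s, Γ(F, chartOpen 𝒜 g)} (h : Compat 𝒜 F hs1 n v) :
    (fun g ↦ mono 𝒜 F hs1 n (v g)) ∈ homFam 𝒜 F hs1 n := by
  have hp : ∀ g, piece 𝒜 F hs1 n g (fun g ↦ mono 𝒜 F hs1 n (v g)) = v g := fun g ↦ by rw [piece_mono, if_pos rfl]
  exact ⟨fun g ↦ by rw [hp], fun g h' W hg hh ↦ by dsimp only; rw [hp, hp]; exact h g h' W hg hh⟩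

lemma smul_mem_homFam {n i : ℕ} {x : Fam 𝒜 F hs1} (hx : x ∈ homFam 𝒜 F hs1 n) {a : A} (ha : a ∈ 𝒜 i) :
    a • x ∈ homFam 𝒜 F hs1 (i + n) ∧
      ∀ g, piece 𝒜 F hs1 (i + n) g (a • x) = cfun 𝒜 (hs1 g) i a ha • piece 𝒜 F hs1 n g x := by
  have hval : a • x = fun g ↦ mono 𝒜 F hs1 (i + n) (cfun 𝒜 (hs1 g) i a ha • piece 𝒜 F hs1 n g x) := funext fun g ↦ by
    show a • x g = _
    conv_lhs => rw [hx.1 g]
    rw [smul_mono 𝒜 F hs1 n _ ha]
  refine ⟨hval ▸ mem_homFam_of_compat 𝒜 F hs1 fun g h W hg hh ↦ ?_, fun g ↦ by rw [hval, piece_mono, if_pos rfl]⟩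
  rw [mres_smul, mres_smul, hx.2 g h W hg hh, smul_smul, smul_smul, cfun_change 𝒜 (hs1 g) (hs1 h) ha hg hh]
  congr 1
  rw [cfun_congr 𝒜 (hs1 g) rfl (pow_add (h : A) i n)
      (ha' := SetLike.mul_mem_graded (show (h : A) ^ i ∈ 𝒜 i by simpa using SetLike.pow_mem_graded i (hs1 h))
        (show (h : A) ^ n ∈ 𝒜 n by simpa using SetLike.pow_mem_graded n (hs1 h))),
    ← cfun_mul 𝒜 (hs1 g) (show (h : A) ^ i ∈ 𝒜 i by simpa using SetLike.pow_mem_graded i (hs1 h))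
      (show (h : A) ^ n ∈ 𝒜 n by simpa using SetLike.pow_mem_graded n (hs1 h)), map_mul]
  ring

variable (G : Set (Fam 𝒜 F hs1))

/-- The submodule generated by `G`. -/
abbrev SubMod : Type u := ↥(Submodule.span A G)

/-- Its grading. -/
def subGrading (n : ℕ) : Submodule R (SubMod 𝒜 F hs1 G) :=
  (homFam 𝒜 F hs1 n).comap ((Submodule.span A G).subtype.restrictScalars R)

instance : SetLike.GradedSMul 𝒜 (subGrading 𝒜 F hs1 G) :=
  ⟨fun {_ _} _ _ ha hx ↦ (smul_mem_homFam 𝒜 F hs1 hx ha).1⟩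

lemma isInternal_subGrading (hG : ∀ x ∈ G, ∃ n, x ∈ homFam 𝒜 F hs1 n) :
    DirectSum.IsInternal (subGrading 𝒜 F hs1 G) := by
  classical
  refine ⟨?_, ?_⟩
  · intro d e hde
    have key : ∀ (d : ⨁ n, subGrading 𝒜 F hs1 G n) (n : ℕ) (g : s),
        piece 𝒜 F hs1 n g (DirectSum.coeAddMonoidHom _ d : SubMod 𝒜 F hs1 G).1 = piece 𝒜 F hs1 n g (d n).1.1 := by
      intro d n g
      induction d using DirectSum.induction_on with
      | zero => simp
      | of i x =>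
        rw [DirectSum.coeAddMonoidHom_of]
        rcases eq_or_ne i n with rfl | h
        · rw [DirectSum.of_eq_same]
        · have hx' : x.1.1 ∈ homFam 𝒜 F hs1 i := x.2
          rw [DirectSum.of_eq_of_ne _ _ _ h.symm, piece_of_mem 𝒜 F hs1 hx' g h]
          simp
      | add a b ha hb => rw [map_add, Submodule.coe_add, map_add, ha, hb, DirectSum.add_apply, Submodule.coe_add,
          Submodule.coe_add, map_add]
    refine DFinsupp.ext fun n ↦ Subtype.ext (Subtype.ext ?_)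
    have hd : (d n).1.1 ∈ homFam 𝒜 F hs1 n := (d n).2
    have he : (e n).1.1 ∈ homFam 𝒜 F hs1 n := (e n).2
    refine sub_eq_zero.mp (eq_zero_of_piece 𝒜 F hs1 (sub_mem hd he) fun g ↦ ?_)
    rw [map_sub, ← key, ← key, hde, sub_self]
  · rintro ⟨x, hx⟩
    suffices ∀ (x) (hx : x ∈ Submodule.span A G),
        ∃ d : ⨁ n, subGrading 𝒜 F hs1 G n, (DirectSum.coeAddMonoidHom _ d : SubMod 𝒜 F hs1 G) = ⟨x, hx⟩ from this x hx
    intro x hx
    induction hx using Submodule.span_induction with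
    | mem x hx =>
      obtain ⟨n, hn⟩ := hG x hx
      exact ⟨DirectSum.of _ n ⟨⟨x, Submodule.subset_span hx⟩, hn⟩, DirectSum.coeAddMonoidHom_of _ _ _⟩
    | zero => exact ⟨0, map_zero _⟩
    | add x y hx' hy' ha hb =>
      obtain ⟨d, hd⟩ := ha
      obtain ⟨e, he⟩ := hb
      exact ⟨d + e, by rw [map_add, hd, he]; rfl⟩
    | smul a x hx' ih =>
      obtain ⟨d, hd⟩ := ih
      suffices ∀ (a : A) (z : SubMod 𝒜 F hs1 G) (d : ⨁ n, subGrading 𝒜 F hs1 G n),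
          (DirectSum.coeAddMonoidHom _ d : SubMod 𝒜 F hs1 G) = z →
          ∃ e : ⨁ n, subGrading 𝒜 F hs1 G n, (DirectSum.coeAddMonoidHom _ e : SubMod 𝒜 F hs1 G) = a • z from
        this a _ d hd
      intro a z d
      induction d using DirectSum.induction_on generalizing z with
      | zero => rintro rfl; exact ⟨0, by simp⟩
      | of i x =>
        rintro rfl
        rw [DirectSum.coeAddMonoidHom_of]
        clear hd d
        induction a using DirectSum.Decomposition.inductionOn 𝒜 with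
        | zero => exact ⟨0, by simp⟩
        | homogeneous b =>
          rename_i j
          exact ⟨DirectSum.of _ (j + i) ⟨b.1 • x.1, (smul_mem_homFam 𝒜 F hs1 x.2 b.2).1⟩, DirectSum.coeAddMonoidHom_of _ _ _⟩
        | add a b ha hb =>
          obtain ⟨e, he⟩ := ha
          obtain ⟨e', he'⟩ := hb
          exact ⟨e + e', by rw [map_add, he, he', add_smul]⟩
      | add p q hp hq =>
        rintro rfl
        obtain ⟨e, he⟩ := hp _ rfl
        obtain ⟨e', he'⟩ := hq _ rfl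
        exact ⟨e + e', by rw [map_add, he, he', map_add, smul_add]⟩

end Groth.Agent.GrTildeLib
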