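import Groth.Agent.GrTildeLib.Sections
import Groth.Agent.ProjUPLib.ToProj
import Groth.Agent.QCohBase.Criteria

/-! `M(n)~` is quasi-coherent. -/

set_option autoImplicit false
set_option backward.isDefEq.respectTransparency false
set_option backward.isDefEq.respectTransparency.types false
set_option linter.unusedSectionVars false

noncomputable section

universe u

open CategoryTheory AlgebraicGeometry Opposite TopologicalSpace HomogeneousLocalization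
open Groth.Agent.QCohBase

namespace Groth.Agent.GrTildeLib

variable {R A : Type u} [CommRing R] [CommRing A] [Algebra R A] (𝒜 : ℕ → Submodule R A) [GradedAlgebra 𝒜]

/-- A normalised fraction for every function on `D₊(f)`. -/
theorem exists_eq_awayToSection {d : ℕ} (hd : 0 < d) {f : A} (hf : f ∈ 𝒜 d)
    (r : Γ(Proj 𝒜, Proj.basicOpen 𝒜 f)) :
    ∃ (k : ℕ) (a : A) (ha : a ∈ 𝒜 (k • d)), 0 < k ∧ r = (Proj.awayToSection 𝒜 f).hom (Away.mk 𝒜 hf k a ha) := by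
  obtain ⟨z, rfl⟩ := (ConcreteCategory.isIso_iff_bijective (Proj.basicOpenIsoAway 𝒜 f hf hd).hom).mp inferInstance |>.2 r
  obtain ⟨k, a, ha, rfl⟩ := Away.mk_surjective 𝒜 hf z
  refine ⟨k + 1, a * f, by rw [succ_nsmul]; exact SetLike.mul_mem_graded ha hf, k.succ_pos, ?_⟩
  refine congrArg (Proj.awayToSection 𝒜 f).hom (HomogeneousLocalization.val_injective _ ?_)
  rw [Away.val_mk, Away.val_mk, Localization.mk_eq_mk_iff, Localization.r_iff_exists]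
  exact ⟨1, by simp [pow_succ]; ring⟩

/-- The value of such a function. -/
lemma val_awayToSection {d : ℕ} {f : A} (hf : f ∈ 𝒜 d) (k : ℕ) (a : A) (ha : a ∈ 𝒜 (k • d))
    (x : Proj.basicOpen 𝒜 f) :
    (((Proj.awayToSection 𝒜 f).hom (Away.mk 𝒜 hf k a ha)).1 x).val =
      (Localization.mk a ⟨f ^ k, fun h ↦ x.2 (x.1.isPrime.mem_of_pow_mem k h)⟩ :
        Localization x.1.asHomogeneousIdeal.toIdeal.primeCompl) := rfl

/-- Its non-vanishing locus. -/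
theorem basicOpen_awayToSection {d : ℕ} (hd : 0 < d) {f : A} (hf : f ∈ 𝒜 d) {k : ℕ} (hk : 0 < k) {a : A}
    (ha : a ∈ 𝒜 (k • d)) :
    (Proj 𝒜).basicOpen ((Proj.awayToSection 𝒜 f).hom (Away.mk 𝒜 hf k a ha)) =
      Proj.basicOpen 𝒜 f ⊓ Proj.basicOpen 𝒜 a := by
  set r := (Proj.awayToSection 𝒜 f).hom (Away.mk 𝒜 hf k a ha)
  have hR : (⊤ : (Spec (CommRingCat.of (Away 𝒜 f))).Opens) ≤
      Proj.awayι 𝒜 f hf hd ⁻¹ᵁ Proj.basicOpen 𝒜 f := fun z _ ↦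
    (Proj.opensRange_awayι 𝒜 f hf hd).le ⟨z, rfl⟩
  have hm : 0 < k • d := Nat.mul_pos hk hd
  have helem : Away.isLocalizationElem hf ha = Away.mk 𝒜 hf k a ha ^ d := by
    apply HomogeneousLocalization.val_injective
    rw [HomogeneousLocalization.val_pow, Away.val_mk, Away.val_mk, Localization.mk_pow]
    refine Localization.mk_eq_mk_iff.mpr (Localization.r_iff_exists.mpr ⟨1, ?_⟩)
    simp [← pow_mul]
  have hap : ((Proj.awayι 𝒜 f hf hd).appLE _ ⊤ hR).hom (r ^ d) =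
      (Scheme.ΓSpecIso _).inv.hom (Away.isLocalizationElem hf ha) := by
    rw [helem, map_pow, map_pow]
    exact congrArg (· ^ d)
      congr(($(Groth.Agent.ProjUPLib.awayToSection_awayι_appLE 𝒜 hf hd hR)).hom (Away.mk 𝒜 hf k a ha))
  have hpre : Proj.awayι 𝒜 f hf hd ⁻¹ᵁ (Proj 𝒜).basicOpen (r ^ d) =
      Proj.awayι 𝒜 f hf hd ⁻¹ᵁ Proj.basicOpen 𝒜 a := by
    rw [Proj.awayι_preimage_basicOpen 𝒜 hf hd ha hm]
    refine Eq.trans ?_ (basicOpen_eq_of_affine _)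
    refine Eq.trans ?_ (congrArg _ hap)
    rw [Scheme.basicOpen_appLE, top_inf_eq]
  have h := congrArg (fun W ↦ Proj.awayι 𝒜 f hf hd ''ᵁ W) hpre
  simp only [Scheme.Hom.image_preimage_eq_opensRange_inf, Proj.opensRange_awayι] at h
  rw [inf_eq_right.mpr ((Proj 𝒜).basicOpen_le _)] at h
  exact ((Proj 𝒜).basicOpen_pow r hd).symm.trans h

variable {M : Type u} [AddCommGroup M] [Module R M] [Module A M] (ℳ : ℕ → Submodule R M)
variable [SetLike.GradedSMul 𝒜 ℳ] [DirectSum.Decomposition ℳ]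

lemma val_smul {n : ℤ} {U : (Proj 𝒜).Opens} (r : Γ(Proj 𝒜, U)) (s : Γ(GrTilde.tilde 𝒜 ℳ n, U)) (x : U) :
    val 𝒜 ℳ (r • s) x = (r.1 x).val • val 𝒜 ℳ s x :=
  GrTilde.coe_smul_val n x.1 _ _

lemma val_mres {n : ℤ} {U V : (Proj 𝒜).Opens} (h : V ≤ U) (s : Γ(GrTilde.tilde 𝒜 ℳ n, U)) (x : V) :
    val 𝒜 ℳ (QCohBase.mres (GrTilde.tilde 𝒜 ℳ n) h s) x = val 𝒜 ℳ s ⟨x.1, h x.2⟩ := rfl

lemma val_smul_awayToSection {n : ℤ} {d : ℕ} {f : A} (hf : f ∈ 𝒜 d) (k : ℕ) (a : A) (ha : a ∈ 𝒜 (k • d))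
    {V : (Proj 𝒜).Opens} (h : V ≤ Proj.basicOpen 𝒜 f) (l : ℕ) (s : Γ(GrTilde.tilde 𝒜 ℳ n, V)) (x : V) {m : M}
    {t : x.1.asHomogeneousIdeal.toIdeal.primeCompl} (hs : val 𝒜 ℳ s x = LocalizedModule.mk m t) :
    val 𝒜 ℳ (ores h ((Proj.awayToSection 𝒜 f).hom (Away.mk 𝒜 hf k a ha)) ^ l • s) x =
      LocalizedModule.mk (a ^ l • m)
        (⟨f ^ k, fun h' ↦ h x.2 (x.1.isPrime.mem_of_pow_mem k h')⟩ ^ l * t) := by
  induction l with
  | zero => rw [pow_zero, one_smul, hs]; simp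
  | succ l ih =>
    rw [pow_succ', mul_smul, val_smul, ih]
    erw [val_awayToSection]
    rw [LocalizedModule.mk_smul_mk, ← mul_smul, ← mul_assoc, pow_succ', pow_succ']

/-- `M(n)~` is quasi-coherent. -/
theorem isQuasicoherent_tilde (n : ℤ) : (GrTilde.tilde 𝒜 ℳ n).IsQuasicoherent := by
  refine isQuasicoherent_of_localizesOn fun p ↦ ?_
  obtain ⟨d, f, hd, hf, hpf⟩ : ∃ (d : ℕ) (f : A), 0 < d ∧ f ∈ 𝒜 d ∧ f ∉ p.asHomogeneousIdeal := by
    by_contra hne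
    push Not at hne
    refine p.not_irrelevant_le ?_
    rw [HomogeneousIdeal.irrelevant_le]
    exact fun i hi b hb ↦ hne i b hi hb
  refine ⟨Proj.basicOpen 𝒜 f, Proj.isAffineOpen_basicOpen 𝒜 f hf hd, hpf, fun r ↦ ?_⟩
  obtain ⟨k, a, ha, hk, rfl⟩ := exists_eq_awayToSection 𝒜 hd hf r
  have hD := basicOpen_awayToSection 𝒜 hd hf hk ha
  set r := (Proj.awayToSection 𝒜 f).hom (Away.mk 𝒜 hf k a ha) with hr
  set V := (Proj 𝒜).basicOpen r with hV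
  have hg : f * a ∈ 𝒜 (d + k * d) := SetLike.mul_mem_graded hf ha
  have hVeq : V = ProjectiveSpectrum.basicOpen 𝒜 (f * a) :=
    hD.trans (Proj.basicOpen_mul 𝒜 f a).symm
  constructor
  · intro x
    let x' : GrTilde.sect 𝒜 ℳ n (op (ProjectiveSpectrum.basicOpen 𝒜 (f * a))) :=
      QCohBase.mres (GrTilde.tilde 𝒜 ℳ n) hVeq.ge x
    obtain ⟨l, i, m, hi, hm⟩ := exists_eq_frac 𝒜 ℳ n (Nat.add_pos_left hd _) hg
      (Proj.isAffineOpen_basicOpen 𝒜 (f * a) hg (Nat.add_pos_left hd _)).isCompact x'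
    refine ⟨l, frac 𝒜 ℳ n _ m ⟨f ^ (l + k * l), SetLike.pow_mem_graded _ hf⟩
      (fun y h ↦ y.2 (y.1.isPrime.mem_of_pow_mem _ h))
      (Or.inl (by rw [hi, smul_eq_mul]; push_cast; ring)), sect_ext 𝒜 ℳ fun y ↦ ?_⟩
    have hy : val 𝒜 ℳ x y = _ := hm ⟨y.1, hVeq.le y.2⟩
    rw [val_smul_awayToSection 𝒜 ℳ hf k a ha _ l x y hy, val_mres, val_frac, LocalizedModule.mk_eq]
    refine ⟨1, ?_⟩
    simp only [Submonoid.smul_def, one_smul, smul_smul, Submonoid.coe_mul, SubmonoidClass.coe_pow]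
    congr 1
    ring
  · intro y hy
    obtain ⟨l, i, m, hi, hm⟩ := exists_eq_frac 𝒜 ℳ n hd hf (Proj.isAffineOpen_basicOpen 𝒜 f hf hd).isCompact y
    obtain ⟨N, hN⟩ := exists_pow_smul_eq_zero 𝒜 ℳ (Nat.add_pos_left hd _) hg m.2 fun z hz ↦ by
      have h1 : val 𝒜 ℳ (QCohBase.mres (GrTilde.tilde 𝒜 ℳ n) ((Proj 𝒜).basicOpen_le r) y) ⟨z, hVeq.ge hz⟩ = 0 := by
        rw [hy]; rfl
      rw [val_mres, hm] at h1
      exact (mk_eq_zero_iff 𝒜 m.1 _).mp h1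
    refine ⟨N, sect_ext 𝒜 ℳ fun x ↦ ?_⟩
    have h2 : ores (le_refl (Proj.basicOpen 𝒜 f)) r = r := by
      rw [QCohBase.ores, show (homOfLE (le_refl (Proj.basicOpen 𝒜 f))).op = 𝟙 _ from rfl, CategoryTheory.Functor.map_id]; rfl
    rw [← h2, val_smul_awayToSection 𝒜 ℳ hf k a ha (le_refl _) N y x (hm x)]
    refine (mk_eq_zero_iff 𝒜 _ _).mpr ⟨f ^ N, fun h ↦ x.2 (x.1.isPrime.mem_of_pow_mem _ h), ?_⟩
    rw [smul_smul, ← mul_pow, hN]

end Groth.Agent.GrTildeLib
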