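import Groth.Agent.GenLocus.PullTensor

/-! Tensoring with a module having a frame. -/

set_option autoImplicit false
set_option backward.isDefEq.respectTransparency false
set_option backward.isDefEq.respectTransparency.types false
set_option linter.unusedSectionVars false

noncomputable section

universe u

open CategoryTheory Limits AlgebraicGeometry Opposite TopologicalSpace
open Groth.Agent.QCohBase Groth.Agent.GenLocus
open scoped TensorProduct

namespace Groth.Agent.GrTildeLib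

variable {X : Scheme.{u}}

/-- A morphism bijective on the small opens is bijective on everything they cover. -/
theorem bijective_app_of_local {M N : X.Modules} (φ : M ⟶ N) (U : X.Opens)
    (h : ∀ x ∈ U, ∃ (W : X.Opens), x ∈ W ∧ ∀ V : X.Opens, V ≤ W → Function.Bijective (φ.app V)) :
    ∀ V : X.Opens, V ≤ U → Function.Bijective (φ.app V) := by
  intro V hVU
  choose W hxW hW using fun x : V ↦ h x.1 (hVU x.2)
  have hle : ∀ x : V, W x ⊓ V ≤ V := fun x ↦ inf_le_right
  have hcov : V ≤ ⨆ x : V, W x ⊓ V := fun x hx ↦ Opens.mem_iSup.mpr ⟨⟨x, hx⟩, hxW ⟨x, hx⟩, hx⟩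
  refine ⟨fun a b hab ↦ eq_of_iSup_le M _ hle hcov _ _ fun x ↦ ?_, fun σ ↦ ?_⟩
  · refine (hW x _ inf_le_left).1 ?_
    rw [← app_mres φ (hle x) a, ← app_mres φ (hle x) b]
    exact congrArg _ hab
  · choose τ hτ using fun x : V ↦ (hW x (W x ⊓ V) inf_le_left).2 (mres N (hle x) σ)
    obtain ⟨t, ht, -⟩ := TopCat.Sheaf.existsUnique_gluing' ⟨M.presheaf, M.isSheaf⟩
      (fun x : V ↦ W x ⊓ V) V (fun x ↦ homOfLE (hle x)) hcov τ (fun x y ↦ by
        show mres M inf_le_left (τ x) = mres M inf_le_right (τ y)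
        refine (hW x _ (inf_le_left.trans inf_le_left)).1 ?_
        rw [← app_mres, ← app_mres, hτ, hτ, mres_mres, mres_mres])
    refine ⟨t, eq_of_iSup_le N _ hle hcov _ _ fun x ↦ ?_⟩
    rw [app_mres, ← hτ x]
    exact congrArg _ (ht x)

theorem isIso_of_bijective {M N : X.Modules} (φ : M ⟶ N)
    (h : ∀ x : X, ∃ (W : X.Opens), x ∈ W ∧ ∀ V : X.Opens, V ≤ W → Function.Bijective (φ.app V)) : IsIso φ := by
  rw [Scheme.Modules.Hom.isIso_iff_isIso_app]
  intro V
  rw [ConcreteCategory.isIso_iff_bijective]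
  exact bijective_app_of_local φ ⊤ (fun x _ ↦ h x) V le_top

theorem isIso_restrict_of_bijective {M N : X.Modules} (φ : M ⟶ N) (U : X.Opens)
    (h : ∀ x ∈ U, ∃ (W : X.Opens), x ∈ W ∧ ∀ V : X.Opens, V ≤ W → Function.Bijective (φ.app V)) :
    IsIso ((Scheme.Modules.restrictFunctor U.ι).map φ) := by
  rw [Scheme.Modules.Hom.isIso_iff_isIso_app]
  intro V
  have : IsIso (φ.app (U.ι ''ᵁ V)) := (ConcreteCategory.isIso_iff_bijective _).mpr
    (bijective_app_of_local φ U h _ ((U.ι.image_le_opensRange V).trans_eq U.opensRange_ι))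
  exact this

/-- Elements of a tensor product with a free rank one factor. -/
lemma bijective_tmul_frame {R A B : Type*} [CommRing R] [AddCommGroup A] [Module R A] [AddCommGroup B] [Module R B]
    (b : B) (hb : Function.Bijective fun r : R ↦ r • b) : Function.Bijective fun a : A ↦ a ⊗ₜ[R] b := by
  let eb := LinearEquiv.ofBijective (LinearMap.toSpanSingleton R B b) hb
  let e := (TensorProduct.rid R A).symm ≪≫ₗ TensorProduct.congr (LinearEquiv.refl R A) eb
  have : (fun a : A ↦ a ⊗ₜ[R] b) = e := funext fun r ↦ by simp [e, eb, TensorProduct.rid_symm_apply]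
  rw [this]
  exact e.bijective

/-- `a ↦ a ⊗ e` is bijective for a frame `e`. -/
theorem bijective_tmul_of_isFrame (M : X.Modules) {N : X.Modules} {U : X.Opens} {e : Γ(N, U)} (he : IsFrame N e)
    (W : X.Opens) (hW : W ≤ U) :
    Function.Bijective fun a : Γ(M, W) ↦ SecTwist.tmul M N W a (mres N hW e) := by
  have hpre : ∀ (V : X.Opens) (hV : V ≤ U), Function.Bijective fun a : Γ(M, V) ↦ a ⊗ₜ[Γ(X, V)] mres N hV e :=
    fun V hV ↦ bijective_tmul_frame _ (he V hV)
  have hmap : ∀ (V V' : X.Opens) (h : V' ≤ V) (hV : V ≤ U) (a : Γ(M, V)),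
      (CohB1.tensorPre M N).map (homOfLE h).op (a ⊗ₜ[Γ(X, V)] mres N hV e) =
        mres M h a ⊗ₜ[Γ(X, V')] mres N (h.trans hV) e :=
    fun V V' h hV a ↦ congrArg (mres M h a ⊗ₜ[Γ(X, V')] ·) (mres_mres N hV h e)
  have hinj : ∀ (V : X.Opens) (hV : V ≤ U) (a a' : Γ(M, V)),
      SecTwist.tmul M N V a (mres N hV e) = SecTwist.tmul M N V a' (mres N hV e) → a = a' := by
    intro V hV a a' haa
    have haa' : toT M N V (a ⊗ₜ[Γ(X, V)] mres N hV e) = toT M N V (a' ⊗ₜ[Γ(X, V)] mres N hV e) := haa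
    choose O hO hpO hOeq using fun p : V ↦ locallyInjective_toT M N _ _ haa' p.2
    refine eq_of_iSup_le M O hO (fun p hp ↦ Opens.mem_iSup.mpr ⟨⟨p, hp⟩, hpO _⟩) a a' fun p ↦ ?_
    have := hOeq p
    rw [hmap _ _ (hO p) hV a, hmap _ _ (hO p) hV a'] at this
    exact (hpre _ ((hO p).trans hV)).1 this
  refine ⟨fun a a' h ↦ hinj W hW a a' h, fun σ ↦ ?_⟩
  choose V hV x hpV hx using fun p : W ↦ locallySurjective_toT M N σ p.2
  choose r hr using fun p : W ↦ (hpre (V p) ((hV p).trans hW)).2 (x p)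
  have hσ : ∀ p : W, SecTwist.tmul M N (V p) (r p) (mres N ((hV p).trans hW) e) = mres (CohB1.tensorMod M N) (hV p) σ :=
    fun p ↦ (congrArg (toT M N (V p)) (hr p)).trans (hx p)
  have hcov : W ≤ iSup V := fun p hp ↦ Opens.mem_iSup.mpr ⟨⟨p, hp⟩, hpV _⟩
  have hres : ∀ {V V' : X.Opens} (h : V' ≤ V) (hV : V ≤ U) (a : Γ(M, V)),
      mres (CohB1.tensorMod M N) h (SecTwist.tmul M N V a (mres N hV e)) =
        SecTwist.tmul M N V' (mres M h a) (mres N (h.trans hV) e) := fun {V V'} h hV a ↦ by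
    refine (SecTwist.map_tmul M N (homOfLE h) a _).trans ?_
    exact congrArg _ (mres_mres N hV h e)
  obtain ⟨t, ht, -⟩ := TopCat.Sheaf.existsUnique_gluing' ⟨M.presheaf, M.isSheaf⟩ V W (fun p ↦ homOfLE (hV p)) hcov r
    (fun p q ↦ hinj (V p ⊓ V q) (inf_le_left.trans ((hV p).trans hW)) _ _ (by
      have e1 := ((hres (inf_le_left : V p ⊓ V q ≤ V p) ((hV p).trans hW) (r p)).symm.trans
        (congrArg (fun y ↦ mres (CohB1.tensorMod M N) (inf_le_left : V p ⊓ V q ≤ V p) y) (hσ p))).trans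
          (mres_mres (CohB1.tensorMod M N) (hV p) inf_le_left σ)
      have e2 := ((hres (inf_le_right : V p ⊓ V q ≤ V q) ((hV q).trans hW) (r q)).symm.trans
        (congrArg (fun y ↦ mres (CohB1.tensorMod M N) (inf_le_right : V p ⊓ V q ≤ V q) y) (hσ q))).trans
          (mres_mres (CohB1.tensorMod M N) (hV q) inf_le_right σ)
      exact e1.trans e2.symm))
  refine ⟨t, eq_of_iSup_le (CohB1.tensorMod M N) V hV hcov _ _ fun p ↦ ?_⟩
  rw [hres (hV p) hW t, show mres M (hV p) t = r p from ht p]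
  exact hσ p

/-- A map out of `M ⊗ N`, bijective on the opens where it is so after inserting a frame. -/
theorem bijective_app_of_isFrame {M N P : X.Modules} (φ : CohB1.tensorMod M N ⟶ P) {U : X.Opens} {e : Γ(N, U)}
    (he : IsFrame N e) (V : X.Opens) (hV : V ≤ U)
    (h : Function.Bijective fun a : Γ(M, V) ↦ φ.app V (SecTwist.tmul M N V a (mres N hV e))) :
    Function.Bijective (φ.app V) := by
  rw [← Function.Bijective.of_comp_iff (φ.app V) (bijective_tmul_of_isFrame M he V hV)]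
  exact h

end Groth.Agent.GrTildeLib
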