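import Groth.Agent.GrTildeLib.QCoh
import Groth.Agent.GrTildeLib.TensorFrame
import Groth.Agent.ProjUPLib.TwistN

/-! `M(m)~ ⊗ O(n) ⟶ M(m + n)~`. -/

set_option autoImplicit false
set_option backward.isDefEq.respectTransparency false
set_option backward.isDefEq.respectTransparency.types false
set_option linter.unusedSectionVars false

noncomputable section

universe u

open CategoryTheory AlgebraicGeometry Opposite TopologicalSpace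
open Groth.Agent.QCohBase Groth.Agent.GenLocus Groth.Agent.ProjUPLib
open scoped TensorProduct

namespace Groth.Agent.GrTildeLib

variable {R A : Type u} [CommRing R] [CommRing A] [Algebra R A] (𝒜 : ℕ → Submodule R A) [GradedAlgebra 𝒜]
variable {M : Type u} [AddCommGroup M] [Module R M] [Module A M] (ℳ : ℕ → Submodule R M)
variable [SetLike.GradedSMul 𝒜 ℳ]
variable (m n k : ℤ)

/-- Products of sections. -/
def actSec (hk : k = m + n) (U : (Proj 𝒜).Opens) (σ : Γ(GrTilde.tilde 𝒜 ℳ m, U))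
    (ψ : Γ(Twist.twist 𝒜 n, U)) : Γ(GrTilde.tilde 𝒜 ℳ k, U) := by
  have hloc : ∀ x : U, ∃ (V : (Proj 𝒜).Opens) (_ : x.1 ∈ V) (iV : V ⟶ U) (i j : ℕ) (a : ℳ i) (s : 𝒜 j)
      (nin : ∀ y : V, s.1 ∉ y.1.asHomogeneousIdeal), ((i : ℤ) = j + k ∨ a.1 = 0) ∧
        ∀ y : V, tval 𝒜 ψ (iV y) • val 𝒜 ℳ σ (iV y) = LocalizedModule.mk a.1 ⟨s.1, nin y⟩ := by
    intro x
    obtain ⟨Va, ma, ia, i, j, a, s, nina, ca, wa⟩ := σ.2 x
    obtain ⟨Vb, mb, ib, i', j', b, t, ninb, cb, wb⟩ := ψ.2 x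
    refine ⟨Va ⊓ Vb, ⟨ma, mb⟩, Opens.infLELeft _ _ ≫ ia, i' + i, j' + j,
      ⟨b.1 • a.1, SetLike.GradedSMul.smul_mem (A := 𝒜) (B := ℳ) b.2 a.2⟩, ⟨t * s, SetLike.mul_mem_graded t.2 s.2⟩,
      fun y h ↦ (y.1.isPrime.mem_or_mem h).elim (ninb ⟨y.1, y.2.2⟩) (nina ⟨y.1, y.2.1⟩), ?_, fun y ↦ ?_⟩
    · rcases ca with ha | ha
      · rcases cb with hb | hb
        · exact Or.inl (by push_cast; omega)
        · exact Or.inr (show b.1 • a.1 = 0 by rw [hb, zero_smul])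
      · exact Or.inr (show b.1 • a.1 = 0 by rw [ha, smul_zero])
    · refine (congrArg₂ (· • ·) (wb ⟨y.1, y.2.2⟩) (wa ⟨y.1, y.2.1⟩)).trans ?_
      exact LocalizedModule.mk_smul_mk b.1 a.1 _ _
  refine ⟨fun x ↦ ⟨tval 𝒜 ψ x • val 𝒜 ℳ σ x, ?_⟩, fun x ↦ ?_⟩
  · obtain ⟨V, hxV, iV, i, j, a, s, nin, hdeg, hw⟩ := hloc x
    have e : tval 𝒜 ψ x • val 𝒜 ℳ σ x = LocalizedModule.mk a.1 ⟨s.1, nin ⟨x.1, hxV⟩⟩ := hw ⟨x.1, hxV⟩
    rw [e]
    rcases hdeg with hd | hd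
    · exact Submodule.subset_span ⟨i, j, a, s, nin ⟨x.1, hxV⟩, hd, rfl⟩
    · rw [hd, LocalizedModule.zero_mk]; exact zero_mem _
  · obtain ⟨V, hxV, iV, i, j, a, s, nin, hdeg, hw⟩ := hloc x
    exact ⟨V, hxV, iV, i, j, a, s, nin, hdeg, hw⟩

lemma val_actSec (hk : k = m + n) (U : (Proj 𝒜).Opens) (σ : Γ(GrTilde.tilde 𝒜 ℳ m, U))
    (ψ : Γ(Twist.twist 𝒜 n, U)) (x : U) :
    val 𝒜 ℳ (actSec 𝒜 ℳ m n k hk U σ ψ) x = tval 𝒜 ψ x • val 𝒜 ℳ σ x := rfl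

variable [DirectSum.Decomposition ℳ]

/-- The action on sectionwise tensor products. -/
def actT (hk : k = m + n) (U : (Proj 𝒜).Opens) :
    Γ(GrTilde.tilde 𝒜 ℳ m, U) ⊗[Γ(Proj 𝒜, U)] Γ(Twist.twist 𝒜 n, U) →+ Γ(GrTilde.tilde 𝒜 ℳ k, U) :=
  TensorProduct.liftAddHom
    (AddMonoidHom.mk' (fun σ ↦ AddMonoidHom.mk' (actSec 𝒜 ℳ m n k hk U σ)
        (fun ψ ψ' ↦ sect_ext 𝒜 ℳ fun x ↦ add_smul (tval 𝒜 ψ x) (tval 𝒜 ψ' x) (val 𝒜 ℳ σ x)))
      (fun σ σ' ↦ AddMonoidHom.ext fun ψ ↦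
        sect_ext 𝒜 ℳ fun x ↦ smul_add (tval 𝒜 ψ x) (val 𝒜 ℳ σ x) (val 𝒜 ℳ σ' x)))
    (fun r σ ψ ↦ sect_ext 𝒜 ℳ fun x ↦ by
      show tval 𝒜 ψ x • val 𝒜 ℳ (r • σ) x = tval 𝒜 (r • ψ) x • val 𝒜 ℳ σ x
      rw [tval_smul, val_smul, smul_smul, mul_comm])

lemma actT_smul (hk : k = m + n) (U : (Proj 𝒜).Opens) (r : Γ(Proj 𝒜, U))
    (t : Γ(GrTilde.tilde 𝒜 ℳ m, U) ⊗[Γ(Proj 𝒜, U)] Γ(Twist.twist 𝒜 n, U)) :
    actT 𝒜 ℳ m n k hk U (r • t) = r • actT 𝒜 ℳ m n k hk U t := by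
  induction t using TensorProduct.induction_on with
  | zero => simp
  | add x y hx hy => rw [smul_add, map_add, map_add, hx, hy, smul_add]
  | tmul σ ψ =>
    refine sect_ext 𝒜 ℳ fun x ↦ ?_
    rw [TensorProduct.smul_tmul', val_smul]
    show tval 𝒜 ψ x • val 𝒜 ℳ (r • σ) x = _
    rw [val_smul, smul_comm]
    rfl

/-- The action on presheaves. -/
def actPre (hk : k = m + n) : CohB1.tensorPre (GrTilde.tilde 𝒜 ℳ m) (Twist.twist 𝒜 n) ⟶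
    (TensorMod.incl (Proj 𝒜)).obj (GrTilde.tilde 𝒜 ℳ k) :=
  PresheafOfModules.homMk
    { app := fun V ↦ AddCommGrpCat.ofHom (actT 𝒜 ℳ m n k hk V.unop)
      naturality := fun V W i ↦ by
        ext x
        induction x using TensorProduct.induction_on with
        | zero => exact (map_zero _).trans (map_zero _).symm
        | add x y hx hy =>
          exact (map_add _ _ _).trans ((congrArg₂ (· + ·) hx hy).trans (map_add _ _ _).symm)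
        | tmul a b => rfl }
    (fun V r x ↦ actT_smul 𝒜 ℳ m n k hk V.unop r x)

/-- The canonical map `M(m)~ ⊗ O(n) ⟶ M(m + n)~`. -/
def actMap (hk : k = m + n) : CohB1.tensorMod (GrTilde.tilde 𝒜 ℳ m) (Twist.twist 𝒜 n) ⟶ GrTilde.tilde 𝒜 ℳ k :=
  ((TensorMod.shAdj (Proj 𝒜)).homEquiv _ _).symm (actPre 𝒜 ℳ m n k hk)

lemma actMap_tmul (hk : k = m + n) (U : (Proj 𝒜).Opens) (σ : Γ(GrTilde.tilde 𝒜 ℳ m, U))
    (ψ : Γ(Twist.twist 𝒜 n, U)) :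
    (actMap 𝒜 ℳ m n k hk).app U (SecTwist.tmul _ _ U σ ψ) = actSec 𝒜 ℳ m n k hk U σ ψ := by
  have h2 := Adjunction.homEquiv_unit (TensorMod.shAdj (Proj 𝒜)) _ _ (actMap 𝒜 ℳ m n k hk)
  rw [actMap, Equiv.apply_symm_apply] at h2
  exact (congr(($h2).app (op U) (σ ⊗ₜ[Γ(Proj 𝒜, U)] ψ))).symm

/-- The map is bijective wherever `O(n)` has an invertible fraction. -/
theorem bijective_actMap (hk : k = m + n) {U : (Proj 𝒜).Opens} {i j : ℕ} (a : 𝒜 i) (s : 𝒜 j)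
    (nin : ∀ x : U, s.1 ∉ x.1.asHomogeneousIdeal) (nina : ∀ x : U, a.1 ∉ x.1.asHomogeneousIdeal)
    (h : (i : ℤ) = j + n) (V : (Proj 𝒜).Opens) (hV : V ≤ U) :
    Function.Bijective ((actMap 𝒜 ℳ m n k hk).app V) := by
  refine bijective_app_of_isFrame _ (isFrame_fracSec 𝒜 n U a s nin nina h) V hV ?_
  let e := QCohBase.mres _ hV (fracSec 𝒜 n U a s nin h)
  let e' : Γ(Twist.twist 𝒜 (-n), V) := fracSec 𝒜 (-n) V s a (fun x ↦ nina ⟨x.1, hV x.2⟩) (by omega)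
  have h1 : ∀ x : V, tval 𝒜 e x * tval 𝒜 e' x = 1 := fun x ↦ by
    refine (Localization.mk_mul _ _ _ _).trans ?_
    rw [← Localization.mk_one, Localization.mk_eq_mk_iff, Localization.r_iff_exists]
    exact ⟨1, by simp; ring⟩
  refine Function.bijective_iff_has_inverse.mpr
    ⟨fun τ ↦ actSec 𝒜 ℳ k (-n) m (by omega) V τ e', fun σ ↦ ?_, fun τ ↦ ?_⟩
  · refine sect_ext 𝒜 ℳ fun x ↦ ?_
    rw [val_actSec]
    simp only [actMap_tmul, val_actSec]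
    rw [smul_smul, mul_comm]
    exact (congrArg (· • val 𝒜 ℳ σ x) (h1 x)).trans (one_smul _ _)
  · refine sect_ext 𝒜 ℳ fun x ↦ ?_
    simp only [actMap_tmul, val_actSec]
    rw [smul_smul]
    exact (congrArg (· • val 𝒜 ℳ τ x) (h1 x)).trans (one_smul _ _)

theorem isIso_actMap (hk : k = m + n) (hgen : (HomogeneousIdeal.irrelevant 𝒜).toIdeal = Ideal.span (𝒜 1 : Set A)) :
    IsIso (actMap 𝒜 ℳ m n k hk) := by
  refine isIso_of_bijective _ fun x ↦ ?_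
  obtain ⟨g, hg, hgx⟩ : ∃ g, g ∈ 𝒜 1 ∧ g ∉ x.asHomogeneousIdeal := by
    by_contra hne
    push Not at hne
    refine x.not_irrelevant_le ?_
    intro b hb
    exact (Ideal.span_le.mpr fun g hg ↦ hne g hg) (hgen.le hb)
  obtain ⟨i, j, a, s, nin, nina, h⟩ :=
    exists_fracSec 𝒜 n (Proj.basicOpen 𝒜 g) ⟨g, hg⟩ le_rfl n (by push_cast; ring)
  exact ⟨_, hgx, bijective_actMap 𝒜 ℳ m n k hk a s nin nina h⟩

/-- Over the opens `D₊(ab)`, `deg a = deg b + d`, the twists by multiples of `d` act invertibly. -/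
theorem isIso_restrict_actMap (hk : k = m + n) (d : ℕ) (q : ℤ) (hq : n = q * d) :
    IsIso ((Scheme.Modules.restrictFunctor
      (⨆ (j : ℕ) (a : 𝒜 (j + d)) (b : 𝒜 j), Proj.basicOpen 𝒜 ((a : A) * b)).ι).map (actMap 𝒜 ℳ m n k hk)) := by
  refine isIso_restrict_of_bijective _ _ fun x hx ↦ ?_
  obtain ⟨j, hx⟩ := Opens.mem_iSup.mp hx
  obtain ⟨a, hx⟩ := Opens.mem_iSup.mp hx
  obtain ⟨b, hx⟩ := Opens.mem_iSup.mp hx
  refine ⟨_, hx, bijective_actMap 𝒜 ℳ m n k hk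
    (i := q.toNat * (j + d) + (-q).toNat * j) (j := q.toNat * j + (-q).toNat * (j + d))
    ⟨a.1 ^ q.toNat * b.1 ^ (-q).toNat,
      SetLike.mul_mem_graded (SetLike.pow_mem_graded _ a.2) (SetLike.pow_mem_graded _ b.2)⟩
    ⟨b.1 ^ q.toNat * a.1 ^ (-q).toNat,
      SetLike.mul_mem_graded (SetLike.pow_mem_graded _ b.2) (SetLike.pow_mem_graded _ a.2)⟩ ?_ ?_ ?_⟩
  · exact fun y hy ↦ (y.1.isPrime.mem_or_mem hy).elim
      (fun h ↦ y.2 (Ideal.mul_mem_left _ _ (y.1.isPrime.mem_of_pow_mem _ h)))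
      (fun h ↦ y.2 (Ideal.mul_mem_right _ _ (y.1.isPrime.mem_of_pow_mem _ h)))
  · exact fun y hy ↦ (y.1.isPrime.mem_or_mem hy).elim
      (fun h ↦ y.2 (Ideal.mul_mem_right _ _ (y.1.isPrime.mem_of_pow_mem _ h)))
      (fun h ↦ y.2 (Ideal.mul_mem_left _ _ (y.1.isPrime.mem_of_pow_mem _ h)))
  · have h1 : (q.toNat : ℤ) - ((-q).toNat : ℤ) = q := by omega
    push_cast
    linear_combination (d : ℤ) * h1 - hq

end Groth.Agent.GrTildeLib
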